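import Mathlib
import Cfsg.Prelude.Def_FusionComponents

/-!
S5121, piece P4b (lead): a finite group is generated by a Sylow `p`-subgroup and its `p'`-elements; hence for a fully
automized `P` the group `Aut_E(P)` lies in every subgroup containing `Aut_T(P)` and the `p'`-elements of `Aut_E(P)`
(`notes/S5121_helper5.md`, Step 7 (ii)).
-/

set_option autoImplicit false

namespace Cfsg.Agent.NSC

open Cfsg Cfsg.FusionSystem

/-- The `p'`-part of an element is a power of it. -/
theorem nsc_exists_pow_coprime_order {Y : Type*} [Group Y] [Finite Y] (p : ℕ) [hp : Fact p.Prime] (y : Y) :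
    ∃ k : ℕ, (orderOf (y ^ (p ^ k))).Coprime p := by
  have hpos : 0 < orderOf y := orderOf_pos y
  obtain ⟨k, m, hm, hkm⟩ := Nat.exists_eq_pow_mul_and_not_dvd hpos.ne' p hp.out.ne_one
  refine ⟨k, ?_⟩
  have h1 : orderOf (y ^ (p ^ k)) = m := by
    rw [orderOf_pow' y (pow_ne_zero k hp.out.ne_zero), hkm,
      Nat.gcd_eq_right (Dvd.intro _ rfl)]
    exact Nat.mul_div_cancel_left m (pow_pos hp.out.pos k)
  rw [h1, Nat.coprime_comm, hp.out.coprime_iff_not_dvd]
  exact hm

/-- A finite group is generated by a Sylow `p`-subgroup and its elements of order prime to `p`: a subgroup containing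
both is everything. -/
theorem nsc_eq_top_of_sylow_of_coprime {A : Type*} [Group A] [Finite A] (p : ℕ) [Fact p.Prime] (R : Sylow p A)
    (K : Subgroup A) (hR : (R : Subgroup A) ≤ K) (hK : ∀ a : A, (orderOf a).Coprime p → a ∈ K) : K = ⊤ := by
  have hp : p.Prime := Fact.out
  -- the normal subgroup generated by the `p'`-elements
  set A₀ : Subgroup A := Subgroup.normalClosure {a : A | (orderOf a).Coprime p} with hA₀
  have hA₀K : A₀ ≤ K := by
    rw [hA₀, Subgroup.normalClosure]
    rw [Subgroup.closure_le]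
    intro x hx
    rw [Group.mem_conjugatesOfSet_iff] at hx
    obtain ⟨b, hb, hbx⟩ := hx
    rw [isConj_iff] at hbx
    obtain ⟨c, rfl⟩ := hbx
    apply hK
    have : orderOf (c * b * c⁻¹) = orderOf b := by
      have := MulEquiv.orderOf_eq (MulAut.conj c) b
      simpa [MulAut.conj_apply] using this
    rw [this]
    exact hb
  -- the quotient is a `p`-group
  have hquot : IsPGroup p (A ⧸ A₀) := by
    intro x
    obtain ⟨a, rfl⟩ := QuotientGroup.mk_surjective x
    obtain ⟨k, hk⟩ := nsc_exists_pow_coprime_order p a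
    refine ⟨k, ?_⟩
    rw [← QuotientGroup.mk_pow, QuotientGroup.eq_one_iff]
    exact Subgroup.subset_normalClosure hk
  obtain ⟨n, hn⟩ := (IsPGroup.iff_card).mp hquot
  have hidx : A₀.index = p ^ n := by rw [Subgroup.index_eq_card]; exact hn
  have h1 : K.index ∣ p ^ n := hidx ▸ Subgroup.index_dvd_of_le hA₀K
  have h2 : K.index ∣ (R : Subgroup A).index := Subgroup.index_dvd_of_le hR
  have h3 : ¬ p ∣ (R : Subgroup A).index := R.not_dvd_index
  have h4 : ¬ p ∣ K.index := fun h => h3 (h.trans h2)
  obtain ⟨m, -, hm⟩ := (Nat.dvd_prime_pow hp).mp h1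
  have hm0 : m = 0 := by
    by_contra hne
    apply h4
    rw [hm]
    exact dvd_pow_self p hne
  rw [hm0, pow_zero] at hm
  exact Subgroup.index_eq_one.mp hm

variable {G : Type*} [Group G]

theorem nsc_autGroup_le_of_gen [Finite G] (p : ℕ) [Fact p.Prime] {T : Subgroup G} (hT : IsPGroup p T)
    (E₁ : FusionSystem T) {P : Subgroup G} (hP : E₁.IsFullyAutomized p P) (K : Subgroup (MulAut P))
    (hK1 : autInducedBy T P ≤ K) (hK2 : ∀ a ∈ E₁.autGroup P, (orderOf a).Coprime p → a ∈ K) :
    E₁.autGroup P ≤ K := by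
  obtain ⟨-, R, hR⟩ := hP
  have : Finite (MulAut P) := inferInstance
  have htop : K.subgroupOf (E₁.autGroup P) = ⊤ := by
    apply nsc_eq_top_of_sylow_of_coprime p R
    · rw [hR]
      intro x hx
      rw [Subgroup.mem_subgroupOf] at hx ⊢
      exact hK1 hx
    · intro a ha
      rw [Subgroup.mem_subgroupOf]
      apply hK2 _ a.2
      rwa [Subgroup.orderOf_coe]
  intro a ha
  have : (⟨a, ha⟩ : E₁.autGroup P) ∈ K.subgroupOf (E₁.autGroup P) := by rw [htop]; trivial
  exact Subgroup.mem_subgroupOf.mp this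

end Cfsg.Agent.NSC
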