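import Mathlib
import Cfsg.Prelude.Def_FusionComponents
import Cfsg.Agent.Lead.FusionStrongInvD
import Cfsg.Agent.Lead.FusionNormalSub
import Cfsg.Agent.Lead.ConjAutDef
import Cfsg.Agent.Helper4.PCore

set_option autoImplicit false
set_option linter.unusedSectionVars false

/-!
# S5121 (normal subsystems of the fusion system of a group of characteristic `p`), part 1: the data

`G` is a finite group with `C_G(O_p(G)) ≤ O_p(G)`, `S` a Sylow `p`-subgroup, `E` a normal subsystem over `T ≤ S` of the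
fusion system of `G` on `S`.  We put `R = T ∩ O_p(G)`, `M` the subgroup of the `g ∈ G` that centralize `O_p(G)/R` and
induce an element of `Aut_E(R)` on `R`, and `H = O^p(M) T`.  See `notes/S5121_helper5.md`.
-/

namespace Cfsg.Agent.NSC

open Cfsg Cfsg.FusionSystem Cfsg.Agent.Lead Cfsg.Agent.Lead.StrongInv

variable {G : Type*} [Group G] {p : ℕ} [Fact p.Prime] {S : Sylow p G} {T : Subgroup G}
  {E : FusionSystem T}

/-- The hypotheses of the theorem. -/
structure Setup (p : ℕ) [Fact p.Prime] (S : Sylow p G) (T : Subgroup G) (E : FusionSystem T) :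
    Prop where
  charp : Subgroup.centralizer ((Cfsg.pCore p G : Subgroup G) : Set G) ≤ Cfsg.pCore p G
  le : T ≤ S
  nrm : E.IsNormalIn (groupFusionSystem (S : Subgroup G)) p

theorem Setup.satE (h : Setup p S T E) : E.IsSaturated p := h.nrm.1.1

theorem Setup.satF (h : Setup p S T E) : (groupFusionSystem (S : Subgroup G)).IsSaturated p :=
  h.nrm.1.2.1

theorem Setup.inv (h : Setup p S T E) : E.IsInvariantIn (groupFusionSystem (S : Subgroup G)) :=
  h.nrm.1.2.2

theorem Setup.sub (h : Setup p S T E) : E.IsSubsystemOf (groupFusionSystem (S : Subgroup G)) :=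
  h.inv.1

theorem Setup.sc (h : Setup p S T E) : (groupFusionSystem (S : Subgroup G)).StronglyClosed T :=
  h.inv.2.1

theorem Setup.si (h : Setup p S T E) : SI (groupFusionSystem (S : Subgroup G)) E :=
  SI_of_invariant _ _ h.inv

/-- Strong closure, elementwise: a `G`-conjugate of an element of `T` that lies in `S` lies in `T`. -/
theorem Setup.conj_mem (h : Setup p S T E) {t g : G} (ht : t ∈ T)
    (hg : g * t * g⁻¹ ∈ (S : Subgroup G)) : g * t * g⁻¹ ∈ T := by
  have hle : Subgroup.zpowers t ≤ T := by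
    rw [Subgroup.zpowers_le]; exact ht
  have hφ : conjHom (Subgroup.zpowers t) g ∈
      (groupFusionSystem (S : Subgroup G)).Hom (Subgroup.zpowers t) := by
    refine ⟨hle.trans h.le, ?_, g, fun x => rfl⟩
    rintro ⟨x, hx⟩
    obtain ⟨k, rfl⟩ := Subgroup.mem_zpowers_iff.mp hx
    show g * t ^ k * g⁻¹ ∈ (S : Subgroup G)
    rw [← conj_zpow]
    exact Subgroup.zpow_mem _ hg k
  exact h.sc.2 _ hle _ hφ ⟨t, Subgroup.mem_zpowers t⟩

/-- `T` is normalized by `S`. -/
theorem Setup.conj_mem_of_mem (h : Setup p S T E) {s t : G} (hs : s ∈ (S : Subgroup G))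
    (ht : t ∈ T) : s * t * s⁻¹ ∈ T :=
  h.conj_mem ht (Subgroup.mul_mem _ (Subgroup.mul_mem _ hs (h.le ht)) (Subgroup.inv_mem _ hs))

/-- `R = T ∩ O_p(G)`. -/
def nscR (p : ℕ) (T : Subgroup G) : Subgroup G := T ⊓ Cfsg.pCore p G

theorem nscR_le : nscR p T ≤ T := inf_le_left

theorem nscR_le_pCore : nscR p T ≤ Cfsg.pCore p G := inf_le_right

theorem pCore_le_S (S : Sylow p G) : Cfsg.pCore p G ≤ (S : Subgroup G) :=
  Cfsg.Agent.Helper4.pCore_le_sylow S

theorem pCore_conj_mem {x : G} (hx : x ∈ Cfsg.pCore p G) (g : G) :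
    g * x * g⁻¹ ∈ Cfsg.pCore p G :=
  (Cfsg.Agent.Helper4.pCore_normal (G := G) (p := p)).conj_mem x hx g

/-- `R` is normal in `G`. -/
theorem nscR_conj_mem (h : Setup p S T E) {r : G} (hr : r ∈ nscR p T) (g : G) :
    g * r * g⁻¹ ∈ nscR p T := by
  have h1 : g * r * g⁻¹ ∈ Cfsg.pCore p G := pCore_conj_mem hr.2 g
  exact ⟨h.conj_mem hr.1 (pCore_le_S S h1), h1⟩

theorem nscR_normal (h : Setup p S T E) : (nscR p T).Normal :=
  ⟨fun _ hr g => nscR_conj_mem h hr g⟩

theorem mem_normalizer_nscR (h : Setup p S T E) (g : G) :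
    g ∈ Subgroup.normalizer ((nscR p T : Subgroup G) : Set G) := by
  have := nscR_normal h
  rw [Subgroup.normalizer_eq_top]
  exact Subgroup.mem_top g

/-- `C_G(O_p(G)/R)`: the elements `g` with `x⁻¹ g x g⁻¹ ∈ R` for all `x ∈ O_p(G)`. -/
def nscD (h : Setup p S T E) : Subgroup G where
  carrier := {g | ∀ x ∈ Cfsg.pCore p G, x⁻¹ * (g * x * g⁻¹) ∈ nscR p T}
  one_mem' := by
    intro x _
    have e : x⁻¹ * (1 * x * 1⁻¹) = 1 := by group
    rw [e]
    exact Subgroup.one_mem _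
  mul_mem' := by
    intro a b ha hb x hx
    have e : x⁻¹ * (a * b * x * (a * b)⁻¹) =
        x⁻¹ * (a * x * a⁻¹) * (a * (x⁻¹ * (b * x * b⁻¹)) * a⁻¹) := by group
    rw [e]
    exact Subgroup.mul_mem _ (ha x hx) (nscR_conj_mem h (hb x hx) a)
  inv_mem' := by
    intro a ha x hx
    have e : x⁻¹ * (a⁻¹ * x * a⁻¹⁻¹) = a⁻¹ * (x⁻¹ * (a * x * a⁻¹))⁻¹ * a⁻¹⁻¹ := by group
    rw [e]
    exact nscR_conj_mem h (Subgroup.inv_mem _ (ha x hx)) a⁻¹

theorem mem_nscD (h : Setup p S T E) (g : G) :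
    g ∈ nscD h ↔ ∀ x ∈ Cfsg.pCore p G, x⁻¹ * (g * x * g⁻¹) ∈ nscR p T := Iff.rfl

/-- The elements of `G` inducing on `R` an element of `Aut_E(R)`. -/
def nscA (p : ℕ) {T : Subgroup G} (E : FusionSystem T) : Subgroup G where
  carrier := {g | ∃ α ∈ E.autGroup (nscR p T), ∀ r : nscR p T,
    ((α r : nscR p T) : G) = g * r * g⁻¹}
  one_mem' := ⟨1, Subgroup.one_mem _, fun r => by simp⟩
  mul_mem' := by
    rintro a b ⟨α, hα, hαv⟩ ⟨β, hβ, hβv⟩
    refine ⟨α * β, Subgroup.mul_mem _ hα hβ, fun r => ?_⟩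
    rw [MulAut.mul_apply, hαv, hβv]
    group
  inv_mem' := by
    rintro a ⟨α, hα, hαv⟩
    refine ⟨α⁻¹, Subgroup.inv_mem _ hα, fun r => ?_⟩
    have h1 := hαv (α⁻¹ r)
    rw [MulAut.apply_inv_self] at h1
    rw [h1]
    group

theorem mem_nscA (g : G) :
    g ∈ nscA p E ↔ ∃ α ∈ E.autGroup (nscR p T), ∀ r : nscR p T,
      ((α r : nscR p T) : G) = g * r * g⁻¹ := Iff.rfl

/-- `M`: the elements of `G` centralizing `O_p(G)/R` and inducing an element of `Aut_E(R)` on `R`. -/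
def nscM (h : Setup p S T E) : Subgroup G := nscD h ⊓ nscA p E

theorem mem_nscM (h : Setup p S T E) (g : G) :
    g ∈ nscM h ↔ (∀ x ∈ Cfsg.pCore p G, x⁻¹ * (g * x * g⁻¹) ∈ nscR p T) ∧
      ∃ α ∈ E.autGroup (nscR p T), ∀ r : nscR p T, ((α r : nscR p T) : G) = g * r * g⁻¹ :=
  Iff.rfl

/-- Conjugation by `g` on the normal subgroup `R`, as an element of `Aut_G(R)`. -/
noncomputable def nscConjR (h : Setup p S T E) (g : G) : MulAut (nscR p T) :=
  conjAutHom (nscR p T) ⟨g, mem_normalizer_nscR h g⟩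

theorem nscConjR_apply (h : Setup p S T E) (g : G) (r : nscR p T) :
    ((nscConjR h g r : nscR p T) : G) = g * r * g⁻¹ := rfl

theorem nscConjR_mem (h : Setup p S T E) (g : G) :
    nscConjR h g ∈ (groupFusionSystem (S : Subgroup G)).autGroup (nscR p T) := by
  rw [Fusion.mem_autGroup_iff _ (nscR_le.trans h.le)]
  exact ⟨nscR_le.trans h.le, fun x => (nscR_le.trans h.le) (nscConjR h g x).2, g, fun x => rfl⟩

/-- `D` is normal in `G`. -/
theorem nscD_normal (h : Setup p S T E) : (nscD h).Normal := by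
  refine ⟨fun g hg k x hx => ?_⟩
  have e : x⁻¹ * (k * g * k⁻¹ * x * (k * g * k⁻¹)⁻¹) =
      k * ((k⁻¹ * x * k⁻¹⁻¹)⁻¹ * (g * (k⁻¹ * x * k⁻¹⁻¹) * g⁻¹)) * k⁻¹ := by group
  rw [e]
  exact nscR_conj_mem h (hg _ (pCore_conj_mem hx k⁻¹)) k

/-- `A` is normal in `G`: `Aut_E(R)` is normalized by `Aut_G(R)`. -/
theorem nscA_normal (h : Setup p S T E) : (nscA p E).Normal := by
  refine ⟨?_⟩
  rintro g ⟨α, hα, hαv⟩ k
  refine ⟨nscConjR h k * α * (nscConjR h k)⁻¹,
    conj_mem_autGroup _ E h.si h.le nscR_le _ _ (nscConjR_mem h k) hα, fun r => ?_⟩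
  rw [MulAut.mul_apply, MulAut.mul_apply, nscConjR_apply, hαv]
  have h1 : (((nscConjR h k)⁻¹ r : nscR p T) : G) = k⁻¹ * r * k := by
    have h2 := nscConjR_apply h k ((nscConjR h k)⁻¹ r)
    rw [MulAut.apply_inv_self] at h2
    rw [h2]
    group
  rw [h1]
  group

theorem nscM_normal (h : Setup p S T E) : (nscM h).Normal := by
  have := nscD_normal h
  have := nscA_normal h
  exact Subgroup.normal_inf_normal _ _

/-- `T ≤ M`. -/
theorem le_nscM (h : Setup p S T E) : T ≤ nscM h := by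
  intro t ht
  have htN : t ∈ Subgroup.normalizer ((nscR p T : Subgroup G) : Set G) := mem_normalizer_nscR h t
  refine ⟨fun x hx => ?_, nscConjR h t, ?_, fun r => rfl⟩
  · refine ⟨?_, ?_⟩
    · have h1 : x⁻¹ * t * x⁻¹⁻¹ ∈ T :=
        h.conj_mem_of_mem (Subgroup.inv_mem _ (pCore_le_S S hx)) ht
      have e : x⁻¹ * (t * x * t⁻¹) = x⁻¹ * t * x⁻¹⁻¹ * t⁻¹ := by group
      rw [e]
      exact Subgroup.mul_mem _ h1 (Subgroup.inv_mem _ ht)
    · exact Subgroup.mul_mem _ (Subgroup.inv_mem _ hx) (pCore_conj_mem hx t)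
  · rw [Fusion.mem_autGroup_iff _ nscR_le]
    have h1 := E.conj_mem (P := nscR p T) (g := t) nscR_le ht
    have e : (nscR p T).subtype.comp (nscConjR h t).toMonoidHom = conjHom (nscR p T) t := by
      ext x
      rfl
    rw [e]
    exact h1

/-- `O^p(M)`: the subgroup generated by the elements of `M` of order prime to `p`. -/
def nscOp (h : Setup p S T E) : Subgroup G :=
  Subgroup.closure {g | g ∈ nscM h ∧ (orderOf g).Coprime p}

theorem nscOp_le (h : Setup p S T E) : nscOp h ≤ nscM h :=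
  (Subgroup.closure_le _).mpr fun _ hg => hg.1

theorem nscOp_normal (h : Setup p S T E) : (nscOp h).Normal := by
  have hM := nscM_normal h
  constructor
  intro n hn g
  have key : (Subgroup.closure {x | x ∈ nscM h ∧ (orderOf x).Coprime p}).map
      (MulAut.conj g).toMonoidHom ≤
      Subgroup.closure {x | x ∈ nscM h ∧ (orderOf x).Coprime p} := by
    rw [MonoidHom.map_closure, Subgroup.closure_le]
    rintro _ ⟨x, ⟨hxM, hxc⟩, rfl⟩
    apply Subgroup.subset_closure
    exact ⟨hM.conj_mem x hxM g,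
      Nat.Coprime.coprime_dvd_left (orderOf_map_dvd (MulAut.conj g).toMonoidHom x) hxc⟩
  exact key ⟨n, hn, rfl⟩

/-- `H = O^p(M) T`. -/
def nscH (h : Setup p S T E) : Subgroup G := nscOp h ⊔ T

theorem le_nscH (h : Setup p S T E) : T ≤ nscH h := le_sup_right

theorem nscH_le (h : Setup p S T E) : nscH h ≤ nscM h := sup_le (nscOp_le h) (le_nscM h)

end Cfsg.Agent.NSC
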