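import Mathlib
import Cfsg.Prelude.Def_FusionComponents
import Cfsg.Agent.NSC.Basic
import Cfsg.Agent.Lead.FusionNilp

set_option autoImplicit false
set_option linter.unusedSectionVars false

/-!
# S5121, part 2: `Q₁ = C_G(Q/R) ∩ C_G(R)` is a normal `p`-subgroup, and `C_T(R) ≤ R`
-/

namespace Cfsg.Agent.NSC

open Cfsg Cfsg.FusionSystem Cfsg.Agent.Lead Cfsg.Agent.Lead.StrongInv

variable {G : Type*} [Group G] {p : ℕ} [Fact p.Prime] {S : Sylow p G} {T : Subgroup G}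
  {E : FusionSystem T}

/-- `Q₁`: the elements of `G` centralizing `R` and `O_p(G)/R`. -/
def nscQ1 (h : Setup p S T E) : Subgroup G :=
  nscD h ⊓ Subgroup.centralizer ((nscR p T : Subgroup G) : Set G)

theorem nscQ1_normal (h : Setup p S T E) : (nscQ1 h).Normal := by
  have h1 := nscD_normal h
  have h2 := nscR_normal h
  have h3 : (Subgroup.centralizer ((nscR p T : Subgroup G) : Set G)).Normal :=
    Subgroup.normal_centralizer
  exact Subgroup.normal_inf_normal _ _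

theorem nscQ1_le_nscM (h : Setup p S T E) : nscQ1 h ≤ nscM h := by
  intro z hz
  refine ⟨hz.1, 1, Subgroup.one_mem _, fun r => ?_⟩
  have h1 := (Subgroup.mem_centralizer_iff.mp hz.2) r r.2
  rw [MulAut.one_apply, ← h1]
  group

theorem nscM_inf_centralizer_le (h : Setup p S T E) :
    nscM h ⊓ Subgroup.centralizer ((nscR p T : Subgroup G) : Set G) ≤ nscQ1 h :=
  fun _ hz => ⟨hz.1.1, hz.2⟩

/-- An element of `Q₁` of order prime to `p` is trivial. -/
theorem nscQ1_eq_one_of_coprime (h : Setup p S T E) {g : G} (hg : g ∈ nscQ1 h)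
    (hcop : (orderOf g).Coprime p) : g = 1 := by
  have hQn : (Cfsg.pCore p G).Normal := Cfsg.Agent.Helper4.pCore_normal
  have hQp : IsPGroup p (Cfsg.pCore p G) := Cfsg.Agent.Helper4.pCore_isPGroup
  have hgN : g ∈ Subgroup.normalizer ((Cfsg.pCore p G : Subgroup G) : Set G) := by
    rw [Subgroup.normalizer_eq_top]
    exact Subgroup.mem_top g
  set β : MulAut (Cfsg.pCore p G) := conjAutHom (Cfsg.pCore p G) ⟨g, hgN⟩ with hβ
  have hβord : (orderOf β).Coprime p := by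
    have h1 : orderOf β ∣ orderOf (⟨g, hgN⟩ : Subgroup.normalizer ((Cfsg.pCore p G : Subgroup G) : Set G)) :=
      orderOf_map_dvd (conjAutHom (Cfsg.pCore p G)) _
    have h2 : orderOf (⟨g, hgN⟩ : Subgroup.normalizer ((Cfsg.pCore p G : Subgroup G) : Set G)) = orderOf g :=
      Subgroup.orderOf_mk g hgN
    rw [h2] at h1
    exact Nat.Coprime.coprime_dvd_left h1 hcop
  -- `g` centralizes `O_p(G)`
  have hcen : g ∈ Subgroup.centralizer ((Cfsg.pCore p G : Subgroup G) : Set G) := by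
    rw [Subgroup.mem_centralizer_iff]
    intro x hx
    have hz : x⁻¹ * (g * x * g⁻¹) ∈ nscR p T := hg.1 x hx
    have hzQ : x⁻¹ * (g * x * g⁻¹) ∈ Cfsg.pCore p G := nscR_le_pCore hz
    have h1 : β ⟨x, hx⟩ = ⟨x, hx⟩ * ⟨x⁻¹ * (g * x * g⁻¹), hzQ⟩ := by
      apply Subtype.ext
      show g * x * g⁻¹ = x * (x⁻¹ * (g * x * g⁻¹))
      group
    have h2 : β ⟨x⁻¹ * (g * x * g⁻¹), hzQ⟩ = ⟨x⁻¹ * (g * x * g⁻¹), hzQ⟩ := by
      apply Subtype.ext
      show g * (x⁻¹ * (g * x * g⁻¹)) * g⁻¹ = x⁻¹ * (g * x * g⁻¹)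
      have h3 := (Subgroup.mem_centralizer_iff.mp hg.2) _ hz
      calc g * (x⁻¹ * (g * x * g⁻¹)) * g⁻¹ = (x⁻¹ * (g * x * g⁻¹)) * g * g⁻¹ := by rw [h3]
        _ = x⁻¹ * (g * x * g⁻¹) := by group
    have h4 := eq_one_of_coprime_aut p hQp β hβord _ _ h1 h2
    have h5 : x⁻¹ * (g * x * g⁻¹) = 1 := congrArg Subtype.val h4
    have h6 : g * x * g⁻¹ = x := by
      have : x * (x⁻¹ * (g * x * g⁻¹)) = x * 1 := by rw [h5]
      rwa [mul_inv_cancel_left, mul_one] at this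
    calc x * g = (g * x * g⁻¹) * g := by rw [h6]
      _ = g * x := by group
  have hgQ : g ∈ Cfsg.pCore p G := h.charp hcen
  obtain ⟨k, hk⟩ := hQp ⟨g, hgQ⟩
  have hk' : g ^ p ^ k = 1 := by
    have := congrArg Subtype.val hk
    simpa using this
  have h1 : orderOf g ∣ p ^ k := orderOf_dvd_of_pow_eq_one hk'
  have h2 : (orderOf g).Coprime (p ^ k) := Nat.Coprime.pow_right k hcop
  have h3 : orderOf g = 1 := Nat.eq_one_of_dvd_coprimes h2 (dvd_refl _) h1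
  exact orderOf_eq_one_iff.mp h3

theorem nscQ1_isPGroup [Finite G] (h : Setup p S T E) : IsPGroup p (nscQ1 h) := by
  apply isPGroup_of_coprime_eq_one p
  rintro ⟨g, hg⟩ hcop
  have h1 : orderOf (⟨g, hg⟩ : nscQ1 h) = orderOf g := Subgroup.orderOf_mk g hg
  rw [h1] at hcop
  exact Subtype.ext (nscQ1_eq_one_of_coprime h hg hcop)

theorem nscQ1_le_pCore [Finite G] (h : Setup p S T E) : nscQ1 h ≤ Cfsg.pCore p G :=
  Cfsg.Agent.Helper4.le_pCore _ (nscQ1_normal h) (nscQ1_isPGroup h)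

/-- `C_T(R) ≤ R`. -/
theorem nsc_centralizer_le [Finite G] (h : Setup p S T E) {t : G} (ht : t ∈ T)
    (hc : t ∈ Subgroup.centralizer ((nscR p T : Subgroup G) : Set G)) : t ∈ nscR p T :=
  ⟨ht, nscQ1_le_pCore h ⟨(le_nscM h ht).1, hc⟩⟩

/-- `[Q₁, M] ≤ R ≤ T`. -/
theorem nscQ1_comm_mem [Finite G] (h : Setup p S T E) {g z : G} (hg : g ∈ nscM h)
    (hz : z ∈ nscQ1 h) : z⁻¹ * (g * z * g⁻¹) ∈ T :=
  nscR_le (hg.1 z (nscQ1_le_pCore h hz))

/-- `[Q₁, M] ≤ R`. -/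
theorem nscQ1_comm_mem_R [Finite G] (h : Setup p S T E) {g z : G} (hg : g ∈ nscM h)
    (hz : z ∈ nscQ1 h) : z⁻¹ * (g * z * g⁻¹) ∈ nscR p T :=
  hg.1 z (nscQ1_le_pCore h hz)

end Cfsg.Agent.NSC
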