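import Mathlib
import Cfsg.Prelude.Def_FusionComponents
import Cfsg.Agent.NSC.Basic
import Cfsg.Agent.Lead.FusionExt
import Cfsg.Agent.Lead.FusionInner
import Cfsg.Agent.Lead.FusionAlperin
import Cfsg.Agent.Lead.FusionSat
import Cfsg.Agent.Helper6.BcgloE

set_option autoImplicit false

/-!
# S5121, Step 4: the Claim

A `p'`-element `u` of `N_G(T)` inducing an element of `Aut_E(T)` on `T` and centralizing `C_S(T)` modulo `Z(T)` lies in
`M`.  See `notes/S5121_helper5.md`.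
-/

namespace Cfsg.Agent.NSC

open Cfsg Cfsg.FusionSystem Cfsg.Agent.Lead Cfsg.Agent.Lead.StrongInv

variable {G : Type*} [Group G] {p : ℕ} [Fact p.Prime] {S : Sylow p G} {T : Subgroup G}
  {E : FusionSystem T}

/-- An element inducing an element of `Aut_E(T)` on `T` induces an element of `Aut_E(R)` on `R`. -/
theorem nsc_claim_memA (h : Setup p S T E) {u : G}
    (huE : ∃ α ∈ E.autGroup T, ∀ t : T, ((α t : T) : G) = u * t * u⁻¹) : u ∈ nscA p E := by
  obtain ⟨α, hα, hαv⟩ := huE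
  have hRT : nscR p T ≤ T := nscR_le
  have hφ := (Fusion.mem_autGroup_iff E le_rfl α).mp hα
  have hψ := Fusion.restrict_mem E hφ hRT
  have hval : ∀ x : nscR p T,
      ((T.subtype.comp α.toMonoidHom).comp (Subgroup.inclusion hRT)) x = u * x * u⁻¹ := by
    intro x
    exact hαv (Subgroup.inclusion hRT x)
  have hr : ((T.subtype.comp α.toMonoidHom).comp (Subgroup.inclusion hRT)).range = nscR p T := by
    ext y
    constructor
    · rintro ⟨x, rfl⟩
      rw [hval]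
      exact nscR_conj_mem h x.2 u
    · intro hy
      have hy' : u⁻¹ * y * u ∈ nscR p T := by
        have := nscR_conj_mem h hy u⁻¹
        rwa [inv_inv] at this
      refine ⟨⟨u⁻¹ * y * u, hy'⟩, ?_⟩
      rw [hval]
      show u * (u⁻¹ * y * u) * u⁻¹ = y
      group
  obtain ⟨α', hα', hα'v⟩ := Fusion.exists_aut_of_range_eq E hψ hr
  refine ⟨α', hα', fun r => ?_⟩
  rw [hα'v, hval]

/-- A normal Sylow subgroup contains every `p`-subgroup. -/
theorem nsc_le_of_normal_sylow {A : Type*} [Group A] [Finite A] (P : Sylow p A)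
    (hn : (P : Subgroup A).Normal) {K : Subgroup A} (hK : IsPGroup p K) : K ≤ P := by
  obtain ⟨Q, hQ⟩ := hK.exists_le_sylow
  obtain ⟨g, hg⟩ := MulAction.exists_smul_eq A P Q
  rw [Sylow.smul_eq_of_normal] at hg
  rw [hg]
  exact hQ

/-- The `p`-elements of `Aut_E(T)` are inner. -/
theorem nsc_pElement_mem [Finite G] (h : Setup p S T E) (β : MulAut T) (hβ : β ∈ E.autGroup T)
    {m : ℕ} (hm : β ^ (p ^ m) = 1) : β ∈ autInducedBy T T := by
  obtain ⟨-, P, hP⟩ := Fusion.top_fullyAutomized p E h.satE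
  have heq : autInducedBy T T = Inn T :=
    le_antisymm Cfsg.Agent.Helper6.Bcglo.autInducedBy_self_le_inn
      (Fusion.inn_le_autInducedBy le_rfl)
  have hnI : ((Inn T).subgroupOf (E.autGroup T)).Normal := inferInstance
  have hn : (P : Subgroup (E.autGroup T)).Normal := by
    rw [hP, heq]
    exact hnI
  have hK : IsPGroup p (Subgroup.zpowers (⟨β, hβ⟩ : E.autGroup T)) := by
    apply IsPGroup.of_card (n := (Nat.card (Subgroup.zpowers (⟨β, hβ⟩ : E.autGroup T))).factorization p)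
    have hdvd : orderOf (⟨β, hβ⟩ : E.autGroup T) ∣ p ^ m := by
      apply orderOf_dvd_of_pow_eq_one
      ext x
      simp [hm]
    obtain ⟨k, -, hk⟩ := (Nat.dvd_prime_pow (Fact.out : p.Prime)).mp hdvd
    rw [Nat.card_zpowers, hk]
    simp [(Fact.out : p.Prime).factorization_pow]
  have hle := nsc_le_of_normal_sylow P hn hK
  have hmem : (⟨β, hβ⟩ : E.autGroup T) ∈ (P : Subgroup (E.autGroup T)) :=
    hle (Subgroup.mem_zpowers _)
  rw [hP, Subgroup.mem_subgroupOf] at hmem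
  exact hmem

/-- The commutator computation in a quotient: if `y = [x⁻¹, u]` commutes with `u`, `u ^ n = 1`, `y ^ m = 1` with
`n`, `m` coprime, then `y = 1`. -/
theorem nsc_eq_one_of_comm {H : Type*} [Group H] {u x y : H} {n m : ℕ}
    (hy : y = x⁻¹ * (u * x * u⁻¹)) (hc : u * y * u⁻¹ = y) (hu : u ^ n = 1) (hym : y ^ m = 1)
    (hnm : n.Coprime m) : y = 1 := by
  have hux : u * x * u⁻¹ = x * y := by
    rw [hy]; group
  have key : ∀ k : ℕ, u ^ k * x * (u ^ k)⁻¹ = x * y ^ k := by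
    intro k
    induction k with
    | zero => simp
    | succ k ih =>
      have e : u ^ (k + 1) * x * (u ^ (k + 1))⁻¹ = u * (u ^ k * x * (u ^ k)⁻¹) * u⁻¹ := by
        rw [pow_succ']; group
      have hck : u * y ^ k * u⁻¹ = y ^ k := by
        rw [← conj_pow, hc]
      rw [e, ih]
      calc u * (x * y ^ k) * u⁻¹ = (u * x * u⁻¹) * (u * y ^ k * u⁻¹) := by group
        _ = x * y * y ^ k := by rw [hux, hck]
        _ = x * y ^ (k + 1) := by rw [pow_succ']; group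
  have h1 := key n
  rw [hu] at h1
  have h2 : y ^ n = 1 := by
    have : x * 1 = x * y ^ n := by
      rw [← h1]; group
    exact (mul_left_cancel this).symm
  have h3 : orderOf y ∣ n := orderOf_dvd_of_pow_eq_one h2
  have h4 : orderOf y ∣ m := orderOf_dvd_of_pow_eq_one hym
  have h5 : orderOf y = 1 := Nat.eq_one_of_dvd_coprimes hnm h3 h4
  exact orderOf_eq_one_iff.mp h5

/-- For `x ∈ O_p(G)` the element `y = x⁻¹ u x u⁻¹` of `O_p(G)` is a product `t c` with `t ∈ T`, `c ∈ C_S(T)`. -/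
theorem nsc_claim_decomp [Finite G] (h : Setup p S T E) {u : G}
    (huT : u ∈ Subgroup.normalizer (T : Set G))
    (huE : ∃ α ∈ E.autGroup T, ∀ t : T, ((α t : T) : G) = u * t * u⁻¹)
    {x : G} (hx : x ∈ Cfsg.pCore p G) :
    ∃ t ∈ T, ∃ c ∈ centralizerIn (S : Subgroup G) T, x⁻¹ * (u * x * u⁻¹) = t * c := by
  obtain ⟨α, hα, hαv⟩ := huE
  have hxS : x ∈ (S : Subgroup G) := pCore_le_S S hx
  have hyQ : x⁻¹ * (u * x * u⁻¹) ∈ Cfsg.pCore p G :=
    Subgroup.mul_mem _ (Subgroup.inv_mem _ hx) (pCore_conj_mem hx u)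
  have hyS : x⁻¹ * (u * x * u⁻¹) ∈ (S : Subgroup G) := pCore_le_S S hyQ
  -- elements of `S` normalize `T`
  have hSN : ∀ s ∈ (S : Subgroup G), s ∈ Subgroup.normalizer (T : Set G) := by
    intro s hs
    rw [Subgroup.mem_normalizer_iff]
    intro t
    constructor
    · intro ht
      exact h.conj_mem_of_mem hs ht
    · intro ht
      have h1 := h.conj_mem_of_mem (Subgroup.inv_mem _ hs) ht
      have e : s⁻¹ * (s * t * s⁻¹) * s⁻¹⁻¹ = t := by group
      rwa [e] at h1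
  have hxN : x ∈ Subgroup.normalizer (T : Set G) := hSN x hxS
  -- the automorphisms
  have hαeq : α = conjAutHom T ⟨u, huT⟩ := by
    ext t
    rw [hαv]
    rfl
  have hξ : conjAutHom T ⟨x, hxN⟩ ∈ (groupFusionSystem (S : Subgroup G)).autGroup T := by
    rw [Fusion.mem_autGroup_iff _ h.le]
    exact ⟨h.le, fun t => h.le (conjAutHom T ⟨x, hxN⟩ t).2, x, fun t => rfl⟩
  obtain ⟨yN, hyN⟩ : ∃ yN : Subgroup.normalizer (T : Set G),
      yN = (⟨x, hxN⟩ : Subgroup.normalizer (T : Set G))⁻¹ *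
        (⟨u, huT⟩ * ⟨x, hxN⟩ * (⟨u, huT⟩ : Subgroup.normalizer (T : Set G))⁻¹) := ⟨_, rfl⟩
  have hyNval : (yN : G) = x⁻¹ * (u * x * u⁻¹) := by
    rw [hyN]; rfl
  have hβE : conjAutHom T yN ∈ E.autGroup T := by
    have e : conjAutHom T yN =
        ((conjAutHom T ⟨x, hxN⟩)⁻¹ * α * ((conjAutHom T ⟨x, hxN⟩)⁻¹)⁻¹) * α⁻¹ := by
      rw [hyN, map_mul, map_inv, map_mul, map_mul, map_inv, ← hαeq]
      group
    rw [e]
    exact Subgroup.mul_mem _
      (conj_mem_autGroup _ E h.si h.le le_rfl _ _ (Subgroup.inv_mem _ hξ) hα)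
      (Subgroup.inv_mem _ hα)
  -- `y` is a `p`-element
  obtain ⟨m, hm⟩ := (Cfsg.Agent.Helper4.pCore_isPGroup (G := G) (p := p)) ⟨_, hyQ⟩
  have hm' : (x⁻¹ * (u * x * u⁻¹)) ^ (p ^ m) = 1 := by
    have := congrArg Subtype.val hm
    simpa using this
  have hβm : (conjAutHom T yN) ^ (p ^ m) = 1 := by
    rw [← map_pow]
    have : yN ^ (p ^ m) = 1 := by
      apply Subtype.ext
      rw [Subgroup.coe_pow, hyNval, hm']
      rfl
    rw [this, map_one]
  have hβT := nsc_pElement_mem h _ hβE hβm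
  obtain ⟨t, ht, htv⟩ := (mem_autInducedBy_iff T T _).mp hβT
  have hcomm : ∀ z ∈ T, (x⁻¹ * (u * x * u⁻¹)) * z * (x⁻¹ * (u * x * u⁻¹))⁻¹ = t * z * t⁻¹ := by
    intro z hz
    have := htv ⟨z, hz⟩
    rw [conjAutHom_apply, hyNval] at this
    exact this
  refine ⟨t, ht, t⁻¹ * (x⁻¹ * (u * x * u⁻¹)), ⟨?_, ?_⟩, by group⟩
  · exact Subgroup.mul_mem _ (Subgroup.inv_mem _ (h.le ht)) hyS
  · show t⁻¹ * (x⁻¹ * (u * x * u⁻¹)) ∈ Subgroup.centralizer (T : Set G)
    rw [Subgroup.mem_centralizer_iff]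
    intro z hz
    have h1 := hcomm z hz
    have h2 : (x⁻¹ * (u * x * u⁻¹)) * z = t * z * t⁻¹ * (x⁻¹ * (u * x * u⁻¹)) := by
      rw [← h1]; group
    calc z * (t⁻¹ * (x⁻¹ * (u * x * u⁻¹))) = t⁻¹ * (t * z * t⁻¹ * (x⁻¹ * (u * x * u⁻¹))) := by group
      _ = t⁻¹ * ((x⁻¹ * (u * x * u⁻¹)) * z) := by rw [h2]
      _ = t⁻¹ * (x⁻¹ * (u * x * u⁻¹)) * z := by group

/-- a p'-element of N_G(T) inducing an element of Aut_E(T) on T and centralizing C_S(T) modulo Z(T) lies in M -/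
theorem nsc_claim [Finite G] (h : Setup p S T E) {u : G} (hu : (orderOf u).Coprime p)
    (huT : u ∈ Subgroup.normalizer (T : Set G))
    (huE : ∃ α ∈ E.autGroup T, ∀ t : T, ((α t : T) : G) = u * t * u⁻¹)
    (huC : ∀ c ∈ centralizerIn (S : Subgroup G) T,
      c⁻¹ * (u * c * u⁻¹) ∈ T ⊓ Subgroup.centralizer (T : Set G)) : u ∈ nscM h := by
  refine ⟨?_, nsc_claim_memA h huE⟩
  intro x hx
  obtain ⟨t, ht, c, hc, hy⟩ := nsc_claim_decomp h huT huE hx
  obtain ⟨y, hyd⟩ : ∃ y : G, y = x⁻¹ * (u * x * u⁻¹) := ⟨_, rfl⟩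
  rw [← hyd] at hy ⊢
  have hyQ : y ∈ Cfsg.pCore p G := by
    rw [hyd]
    exact Subgroup.mul_mem _ (Subgroup.inv_mem _ hx) (pCore_conj_mem hx u)
  -- `[y, u] ∈ R`
  have hyR : y⁻¹ * (u * y * u⁻¹) ∈ nscR p T := by
    refine ⟨?_, Subgroup.mul_mem _ (Subgroup.inv_mem _ hyQ) (pCore_conj_mem hyQ u)⟩
    have h1 : t⁻¹ * (u * t * u⁻¹) ∈ T :=
      Subgroup.mul_mem _ (Subgroup.inv_mem _ ht) ((Subgroup.mem_normalizer_iff.mp huT t).mp ht)
    have h2 : c⁻¹ * (t⁻¹ * (u * t * u⁻¹)) * c⁻¹⁻¹ ∈ T :=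
      h.conj_mem_of_mem (Subgroup.inv_mem _ hc.1) h1
    have h3 : c⁻¹ * (u * c * u⁻¹) ∈ T := (huC c hc).1
    have e : y⁻¹ * (u * y * u⁻¹) =
        c⁻¹ * (t⁻¹ * (u * t * u⁻¹)) * c⁻¹⁻¹ * (c⁻¹ * (u * c * u⁻¹)) := by
      rw [hy]; group
    rw [e]
    exact Subgroup.mul_mem _ h2 h3
  -- pass to `G ⧸ R`
  have hRn : (nscR p T).Normal := nscR_normal h
  obtain ⟨m, hm⟩ := (Cfsg.Agent.Helper4.pCore_isPGroup (G := G) (p := p)) ⟨y, hyQ⟩
  have hm' : y ^ (p ^ m) = 1 := by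
    have := congrArg Subtype.val hm
    simpa using this
  have key : (QuotientGroup.mk' (nscR p T)) y = 1 := by
    apply nsc_eq_one_of_comm (u := QuotientGroup.mk' (nscR p T) u)
      (x := QuotientGroup.mk' (nscR p T) x) (n := orderOf u) (m := p ^ m)
    · rw [hyd]
      simp
    · have h1 : (QuotientGroup.mk' (nscR p T)) (y⁻¹ * (u * y * u⁻¹)) = 1 :=
        (QuotientGroup.eq_one_iff _).mpr hyR
      rw [map_mul, map_inv, map_mul, map_mul, map_inv] at h1
      exact (eq_of_inv_mul_eq_one h1).symm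
    · rw [← map_pow, pow_orderOf_eq_one, map_one]
    · rw [← map_pow, hm', map_one]
    · exact Nat.Coprime.pow_right m hu
  exact (QuotientGroup.eq_one_iff _).mp key

end Cfsg.Agent.NSC
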