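import Mathlib
import Cfsg.Prelude.Def_FusionComponents
import Cfsg.Agent.NSC.Basic
import Cfsg.Agent.NSC.Cent
import Cfsg.Agent.Lead.HyperfocalGroup
import Cfsg.Agent.Lead.FusionNormalSub
import Cfsg.Agent.Lead.FusionSat
import Cfsg.Agent.Lead.FusionNormalCrit

set_option autoImplicit false
set_option linter.unusedSectionVars false

/-!
# S5121, piece P3a (helper8): `S ∩ M = T Q₁`, the focal elements of `M` lie in `T`, `S ∩ O^p(M) ≤ T`
-/

namespace Cfsg.Agent.NSC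

open Cfsg Cfsg.FusionSystem Cfsg.Agent.Lead Cfsg.Agent.Lead.StrongInv

variable {G : Type*} [Group G] {p : ℕ} [Fact p.Prime] {S : Sylow p G} {T : Subgroup G}
  {E : FusionSystem T}

/-- `R` is its only `E`-conjugate. -/
theorem nscFocal_isConj_eq (h : Setup p S T E) {Q' : Subgroup G} (hc : E.IsConj (nscR p T) Q') :
    Q' = nscR p T := by
  obtain ⟨φ, hφ, rfl⟩ := hc
  obtain ⟨-, -, g, hg⟩ := h.sub _ hφ
  ext y
  constructor
  · rintro ⟨x, rfl⟩
    rw [hg x]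
    exact nscR_conj_mem h x.2 g
  · intro hy
    refine ⟨⟨g⁻¹ * y * g⁻¹⁻¹, nscR_conj_mem h hy g⁻¹⟩, ?_⟩
    rw [hg]
    show g * (g⁻¹ * y * g⁻¹⁻¹) * g⁻¹ = y
    group

/-- `R` is fully automized in `E`. -/
theorem nscFocal_fullyAutomized (h : Setup p S T E) : E.IsFullyAutomized p (nscR p T) := by
  obtain ⟨Q', hc, hfa, -⟩ := h.satE (nscR p T) nscR_le
  rw [nscFocal_isConj_eq h hc] at hfa
  exact hfa

/-- `R` is receptive in `E`. -/
theorem nscFocal_receptive (h : Setup p S T E) : E.IsReceptive (nscR p T) := by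
  obtain ⟨Q', hc, -, hrec⟩ := h.satE (nscR p T) nscR_le
  rw [nscFocal_isConj_eq h hc] at hrec
  exact hrec

/-- An element of `S` inducing on `R` an element of `Aut_E(R)` induces an element of `Aut_T(R)`. -/
theorem nscFocal_conjR_mem [Finite G] (h : Setup p S T E) {x : G}
    (hxS : x ∈ (S : Subgroup G)) (hxA : nscConjR h x ∈ E.autGroup (nscR p T)) :
    nscConjR h x ∈ autInducedBy T (nscR p T) := by
  obtain ⟨-, Rs, hRs⟩ := nscFocal_fullyAutomized h
  have hSp : IsPGroup p (S : Subgroup G) := S.isPGroup'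
  have hQp : IsPGroup p ((autInducedBy (S : Subgroup G) (nscR p T)).subgroupOf
      (E.autGroup (nscR p T))) :=
    (Fusion.isPGroup_autInducedBy p hSp (nscR p T)).comap_subtype
  have hle : (Rs : Subgroup ↥(E.autGroup (nscR p T))) ≤
      (autInducedBy (S : Subgroup G) (nscR p T)).subgroupOf (E.autGroup (nscR p T)) := by
    rw [hRs]
    intro a ha
    rw [Subgroup.mem_subgroupOf] at ha ⊢
    exact autInducedBy_mono h.le _ ha
  have heq := Rs.is_maximal' hQp hle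
  have hx1 : (⟨nscConjR h x, hxA⟩ : ↥(E.autGroup (nscR p T))) ∈
      (autInducedBy (S : Subgroup G) (nscR p T)).subgroupOf (E.autGroup (nscR p T)) := by
    rw [Subgroup.mem_subgroupOf]
    exact Fusion.conjAutHom_mem_autInducedBy (nscR p T) _ hxS
  rw [heq, hRs, Subgroup.mem_subgroupOf] at hx1
  exact hx1

/-- `S ∩ M = T Q₁`. -/
theorem nsc_S_inf_M [Finite G] (h : Setup p S T E) {x : G} (hxS : x ∈ (S : Subgroup G))
    (hxM : x ∈ nscM h) : ∃ t ∈ T, ∃ z ∈ nscQ1 h, x = t * z := by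
  obtain ⟨α, hα, hαv⟩ := hxM.2
  have hαx : α = nscConjR h x := by
    ext r
    rw [hαv r, nscConjR_apply]
  rw [hαx] at hα
  obtain ⟨t, ht, htv⟩ := (mem_autInducedBy_iff T (nscR p T) _).mp
    (nscFocal_conjR_mem h hxS hα)
  have hcen : t⁻¹ * x ∈ Subgroup.centralizer ((nscR p T : Subgroup G) : Set G) := by
    rw [Subgroup.mem_centralizer_iff]
    intro r hr
    have h1 := htv ⟨r, hr⟩
    rw [nscConjR_apply] at h1
    have h2 : x * r * x⁻¹ = t * r * t⁻¹ := h1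
    calc r * (t⁻¹ * x) = t⁻¹ * (t * r * t⁻¹) * x := by group
      _ = t⁻¹ * (x * r * x⁻¹) * x := by rw [h2]
      _ = t⁻¹ * x * r := by group
  refine ⟨t, ht, t⁻¹ * x, ?_, by group⟩
  exact nscM_inf_centralizer_le h (Subgroup.mem_inf.mpr
    ⟨Subgroup.mul_mem _ (Subgroup.inv_mem _ (le_nscM h ht)) hxM, hcen⟩)

/-- The focal elements of `M` lie in `T`. -/
theorem nsc_focal_mem [Finite G] (h : Setup p S T E) {x g : G} (hxS : x ∈ (S : Subgroup G))
    (hxM : x ∈ nscM h) (hg : g ∈ nscM h) (hgx : g * x * g⁻¹ ∈ (S : Subgroup G)) :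
    x⁻¹ * (g * x * g⁻¹) ∈ T := by
  obtain ⟨t, ht, z, hz, rfl⟩ := nsc_S_inf_M h hxS hxM
  have hQ1n := nscQ1_normal h
  have hzQ : z ∈ Cfsg.pCore p G := nscQ1_le_pCore h hz
  have hzS : z ∈ (S : Subgroup G) := pCore_le_S S hzQ
  have hgz : g * z * g⁻¹ ∈ (S : Subgroup G) :=
    pCore_le_S S (nscQ1_le_pCore h (hQ1n.conj_mem z hz g))
  have hgt : g * t * g⁻¹ ∈ T := by
    apply h.conj_mem ht
    have e : g * t * g⁻¹ = (g * (t * z) * g⁻¹) * (g * z * g⁻¹)⁻¹ := by group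
    rw [e]
    exact Subgroup.mul_mem _ hgx (Subgroup.inv_mem _ hgz)
  have h1 : z⁻¹ * (t⁻¹ * (g * t * g⁻¹)) * z⁻¹⁻¹ ∈ T :=
    h.conj_mem_of_mem (Subgroup.inv_mem _ hzS)
      (Subgroup.mul_mem _ (Subgroup.inv_mem _ ht) hgt)
  have h2 : z⁻¹ * (g * z * g⁻¹) ∈ T := nscQ1_comm_mem h hg hz
  have e : (t * z)⁻¹ * (g * (t * z) * g⁻¹) =
      (z⁻¹ * (t⁻¹ * (g * t * g⁻¹)) * z⁻¹⁻¹) * (z⁻¹ * (g * z * g⁻¹)) := by group
  rw [e]
  exact Subgroup.mul_mem _ h1 h2

/-- `O^p(M)` is the image of `O^p` of the group `M`. -/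
theorem nscFocal_Op_eq_map (h : Setup p S T E) :
    nscOp h = (Cfsg.pResidual p ↥(nscM h)).map (nscM h).subtype := by
  unfold nscOp Cfsg.pResidual
  rw [MonoidHom.map_closure]
  congr 1
  ext g
  constructor
  · rintro ⟨hgM, hgc⟩
    refine ⟨⟨g, hgM⟩, ?_, rfl⟩
    show Nat.Coprime (orderOf (⟨g, hgM⟩ : ↥(nscM h))) p
    rw [Subgroup.orderOf_mk]
    exact hgc
  · rintro ⟨g', hg', rfl⟩
    refine ⟨g'.2, ?_⟩
    have : Nat.Coprime (orderOf g') p := hg'
    rwa [← Subgroup.orderOf_coe] at this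

/-- `S ∩ O^p(M) ≤ T`: the hyperfocal subgroup theorem in the group `M`. -/
theorem nsc_S_inf_Op [Finite G] (h : Setup p S T E) : (S : Subgroup G) ⊓ nscOp h ≤ T := by
  haveI hMn := nscM_normal h
  have hcard := Fusion.card_sylow_inf_normal p S (nscM h)
  have hcard' : Nat.card ↥(((S : Subgroup G) ⊓ nscM h).subgroupOf (nscM h)) =
      p ^ (Nat.card ↥(nscM h)).factorization p := by
    rw [card_subgroupOf_of_le inf_le_right]
    exact hcard
  obtain ⟨S', hS'⟩ : ∃ S' : Sylow p ↥(nscM h),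
      (S' : Subgroup ↥(nscM h)) = ((S : Subgroup G) ⊓ nscM h).subgroupOf (nscM h) :=
    ⟨Sylow.ofCard _ hcard', rfl⟩
  have hhyp := Fusion.hyperfocal_group_eq p S'
  -- the hyperfocal subgroup of the fusion system of `M` lies over `T`
  have hle : (groupFusionSystem (S' : Subgroup ↥(nscM h))).hyperfocalSubgroup p ≤
      T.comap (nscM h).subtype := by
    unfold FusionSystem.hyperfocalSubgroup
    rw [Subgroup.closure_le]
    rintro y ⟨P, α, x, hPS, -, rfl⟩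
    have hα := (Fusion.mem_autGroup_iff (groupFusionSystem (S' : Subgroup ↥(nscM h))) hPS α.1).mp α.2
    obtain ⟨-, -, g, hg⟩ := hα
    have hgx : (((α : MulAut P) x : P) : ↥(nscM h)) = g * x * g⁻¹ := hg x
    have key : ∀ w : ↥(nscM h), w ∈ (S' : Subgroup ↥(nscM h)) → (w : G) ∈ (S : Subgroup G) := by
      intro w hw
      rw [hS', Subgroup.mem_subgroupOf] at hw
      exact hw.1
    have hxS' : ((x : ↥(nscM h)) : G) ∈ (S : Subgroup G) := key _ (hPS x.2)
    have hαS' : ((g * x * g⁻¹ : ↥(nscM h)) : G) ∈ (S : Subgroup G) := by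
      rw [← hgx]
      exact key _ (hPS ((α : MulAut P) x).2)
    rw [SetLike.mem_coe, Subgroup.mem_comap, hgx]
    exact nsc_focal_mem h (x := ((x : ↥(nscM h)) : G)) (g := (g : G)) hxS'
      (x : ↥(nscM h)).2 g.2 hαS'
  intro y hy
  have hyOp := hy.2
  rw [nscFocal_Op_eq_map h] at hyOp
  obtain ⟨y', hy', rfl⟩ := hyOp
  have hy'S : y' ∈ (S' : Subgroup ↥(nscM h)) := by
    rw [hS', Subgroup.mem_subgroupOf]
    exact ⟨hy.1, y'.2⟩
  have : y' ∈ (groupFusionSystem (S' : Subgroup ↥(nscM h))).hyperfocalSubgroup p := by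
    rw [hhyp]
    exact ⟨hy'S, hy'⟩
  exact hle this

end Cfsg.Agent.NSC
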