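import Mathlib
import Cfsg.Prelude.Def_FusionComponents
import Cfsg.Agent.Lead.StronglyEmbedded
import Cfsg.Agent.Lead.FusionSat3
import Cfsg.Agent.Lead.FusionConj
import Cfsg.Agent.Lead.FusionAut
import Cfsg.Agent.Helper4.PCore

set_option autoImplicit false
set_option linter.unusedSectionVars false

/-!
# S5121, Lemma X (a): an essential subgroup contains every normal subgroup of `G` inside `T`
-/

namespace Cfsg.Agent.NSC

open Cfsg Cfsg.FusionSystem Cfsg.Agent.Lead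

variable {G : Type*} [Group G]

/-- The automorphisms of `P` induced by conjugation by elements of `R`. -/
def nscAutR (R P : Subgroup G) : Subgroup (MulAut P) where
  carrier := {α | ∃ r ∈ R, ∀ x : P, ((α x : P) : G) = r * x * r⁻¹}
  one_mem' := ⟨1, R.one_mem, fun x => by simp⟩
  mul_mem' := by
    rintro α β ⟨r, hr, hα⟩ ⟨s, hs, hβ⟩
    refine ⟨r * s, R.mul_mem hr hs, fun x => ?_⟩
    rw [MulAut.mul_apply, hα, hβ]
    group
  inv_mem' := by
    rintro α ⟨r, hr, hα⟩
    refine ⟨r⁻¹, R.inv_mem hr, fun x => ?_⟩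
    have h1 := hα (α⁻¹ x)
    rw [MulAut.apply_inv_self] at h1
    rw [h1]
    group

theorem mem_nscAutR {R P : Subgroup G} (α : MulAut P) :
    α ∈ nscAutR R P ↔ ∃ r ∈ R, ∀ x : P, ((α x : P) : G) = r * x * r⁻¹ := Iff.rfl

theorem nscAutR_pow_apply {P : Subgroup G} {α : MulAut P} {r : G}
    (hα : ∀ x : P, ((α x : P) : G) = r * x * r⁻¹) (n : ℕ) (x : P) :
    (((α ^ n) x : P) : G) = r ^ n * x * (r ^ n)⁻¹ := by
  induction n generalizing x with
  | zero => simp
  | succ n ih =>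
    rw [pow_succ, MulAut.mul_apply, ih, hα, pow_succ]
    group

theorem nscAutR_isPGroup {p : ℕ} {R P : Subgroup G} (hR : IsPGroup p R) :
    IsPGroup p (nscAutR R P) := by
  rintro ⟨α, r, hr, hα⟩
  obtain ⟨k, hk⟩ := hR ⟨r, hr⟩
  have hk' : r ^ p ^ k = 1 := by
    have := congrArg Subtype.val hk
    simpa using this
  refine ⟨k, Subtype.ext ?_⟩
  show α ^ p ^ k = 1
  ext x
  rw [nscAutR_pow_apply hα, hk']
  simp

/-- **Lemma X (a).** -/
theorem nsc_le_essential [Finite G] (p : ℕ) [Fact p.Prime] (S : Sylow p G) {T : Subgroup G}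
    (hTS : T ≤ S) (R : Subgroup G) (hRn : R.Normal) (hRT : R ≤ T) (E₁ : FusionSystem T)
    (h₁F : E₁.IsSubsystemOf (groupFusionSystem (S : Subgroup G))) {P : Subgroup G}
    (hP : E₁.IsEssential p P) : R ≤ P := by
  obtain ⟨hPc, -, hN, Y, hY⟩ := hP
  have hPT : P ≤ T := hPc.1
  have hTp : IsPGroup p T := S.isPGroup'.to_le hTS
  have hcore := pCore_eq_bot_of_stronglyPEmbedded p Y hY
  -- `Aut_R(P) ≤ Aut_{E₁}(P)`
  have hKle : nscAutR R P ≤ E₁.autGroup P := by
    rintro α ⟨r, hr, hα⟩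
    rw [Fusion.mem_autGroup_iff _ hPT]
    have h1 := E₁.conj_mem (P := P) (g := r) hPT (hRT hr)
    have e : P.subtype.comp α.toMonoidHom = conjHom P r := by
      ext x
      exact hα x
    rw [e]
    exact h1
  -- it is normal there
  have hKn : ((nscAutR R P).subgroupOf (E₁.autGroup P)).Normal := by
    refine ⟨?_⟩
    rintro ⟨α, hαE⟩ hα ⟨β, hβE⟩
    rw [Subgroup.mem_subgroupOf] at hα ⊢
    obtain ⟨r, hr, hαv⟩ := hα
    have hβF := h₁F P ((Fusion.mem_autGroup_iff _ hPT β).mp hβE)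
    obtain ⟨-, -, g, hg⟩ := hβF
    have hg' : ∀ x : P, ((β x : P) : G) = g * x * g⁻¹ := hg
    have hginv : ∀ x : P, ((β⁻¹ x : P) : G) = g⁻¹ * x * g := by
      intro x
      have h1 := hg' (β⁻¹ x)
      rw [MulAut.apply_inv_self] at h1
      rw [h1]
      group
    refine ⟨g * r * g⁻¹, hRn.conj_mem r hr g, fun x => ?_⟩
    show (((β * α * β⁻¹) x : P) : G) = _
    rw [MulAut.mul_apply, MulAut.mul_apply, hg', hαv, hginv]
    group
  have hKp : IsPGroup p ((nscAutR R P).subgroupOf (E₁.autGroup P)) :=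
    (nscAutR_isPGroup (hTp.to_le hRT)).comap_of_injective _ (Subgroup.subtype_injective _)
  -- hence its image in `Out` is trivial
  have hmapn : (((nscAutR R P).subgroupOf (E₁.autGroup P)).map
      (QuotientGroup.mk' ((Inn P).subgroupOf (E₁.autGroup P)))).Normal :=
    hKn.map _ (QuotientGroup.mk'_surjective _)
  have hmapp : IsPGroup p (((nscAutR R P).subgroupOf (E₁.autGroup P)).map
      (QuotientGroup.mk' ((Inn P).subgroupOf (E₁.autGroup P)))) := hKp.map _
  have hbot := Cfsg.Agent.Helper4.le_pCore _ hmapn hmapp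
  rw [hcore] at hbot
  have hinn : ∀ α ∈ nscAutR R P, α ∈ Inn P := by
    intro α hα
    have h1 : (QuotientGroup.mk' ((Inn P).subgroupOf (E₁.autGroup P))) ⟨α, hKle hα⟩ ∈
        ((nscAutR R P).subgroupOf (E₁.autGroup P)).map
          (QuotientGroup.mk' ((Inn P).subgroupOf (E₁.autGroup P))) :=
      ⟨⟨α, hKle hα⟩, Subgroup.mem_subgroupOf.mpr hα, rfl⟩
    have h2 := hbot h1
    rw [Subgroup.mem_bot, QuotientGroup.mk'_apply, QuotientGroup.eq_one_iff] at h2
    exact Subgroup.mem_subgroupOf.mp h2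
  -- `N_R(P) ≤ P`
  have : Finite P := Finite.of_injective (fun x : P => (x : G)) Subtype.val_injective
  have hNR : ∀ r ∈ R, (∀ x ∈ P, r * x * r⁻¹ ∈ P) → r ∈ P := by
    intro r hr hrP
    have hrN : r ∈ Subgroup.normalizer (P : Set G) := mem_normalizer_of_conj_mem_of_finite P r hrP
    have hα : conjAutHom P ⟨r, hrN⟩ ∈ nscAutR R P := ⟨r, hr, fun x => rfl⟩
    obtain ⟨y, hy⟩ := hinn _ hα
    have hcen : (y : G)⁻¹ * r ∈ centralizerIn T P := by
      refine Subgroup.mem_inf.mpr ⟨Subgroup.mul_mem _ (Subgroup.inv_mem _ (hPT y.2)) (hRT hr), ?_⟩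
      rw [Subgroup.mem_centralizer_iff]
      intro x hx
      have h1 : ((MulAut.conj y ⟨x, hx⟩ : P) : G) = ((conjAutHom P ⟨r, hrN⟩ ⟨x, hx⟩ : P) : G) := by
        rw [hy]
      have h2 : (y : G) * x * (y : G)⁻¹ = r * x * r⁻¹ := by
        simpa [MulAut.conj_apply] using h1
      calc x * ((y : G)⁻¹ * r) = (y : G)⁻¹ * ((y : G) * x * (y : G)⁻¹) * r := by group
        _ = (y : G)⁻¹ * (r * x * r⁻¹) * r := by rw [h2]
        _ = (y : G)⁻¹ * r * x := by group
    have h3 := hPc.2 P (Fusion.isConj_refl E₁ hPT) hcen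
    have h4 : r = (y : G) * ((y : G)⁻¹ * r) := by group
    rw [h4]
    exact Subgroup.mul_mem _ y.2 h3
  -- normalizer condition in the `p`-group `P R`
  by_contra hne
  have := hRn
  have hXp : IsPGroup p (P ⊔ R : Subgroup G) := hTp.to_le (sup_le hPT hRT)
  have : Finite (P ⊔ R : Subgroup G) :=
    Finite.of_injective (fun x : (P ⊔ R : Subgroup G) => (x : G)) Subtype.val_injective
  have hnil : Group.IsNilpotent (P ⊔ R : Subgroup G) := hXp.isNilpotent
  have hlt : P.subgroupOf (P ⊔ R) < ⊤ := by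
    rw [lt_top_iff_ne_top]
    intro htop
    apply hne
    intro r hr
    have h1 : (⟨r, (le_sup_right : R ≤ P ⊔ R) hr⟩ : (P ⊔ R : Subgroup G)) ∈ P.subgroupOf (P ⊔ R) := by
      rw [htop]; exact Subgroup.mem_top _
    exact Subgroup.mem_subgroupOf.mp h1
  have hnc := Group.normalizerCondition_of_isNilpotent (G := (P ⊔ R : Subgroup G)) _ hlt
  obtain ⟨x, hxN, hxP⟩ := SetLike.exists_of_lt hnc
  have hxPR : (x : G) ∈ ((P ⊔ R : Subgroup G) : Set G) := x.2
  rw [Subgroup.mul_normal] at hxPR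
  obtain ⟨y, hy, r, hr, hyr⟩ := Set.mem_mul.mp hxPR
  have hxconj : ∀ z ∈ P, (x : G) * z * (x : G)⁻¹ ∈ P := by
    intro z hz
    have h1 := (Subgroup.mem_normalizer_iff.mp hxN ⟨z, (le_sup_left : P ≤ P ⊔ R) hz⟩).mp
      (Subgroup.mem_subgroupOf.mpr hz)
    exact Subgroup.mem_subgroupOf.mp h1
  have hrP : r ∈ P := by
    apply hNR r hr
    intro z hz
    have h1 := hxconj z hz
    have e : r * z * r⁻¹ = y⁻¹ * ((x : G) * z * (x : G)⁻¹) * y⁻¹⁻¹ := by
      rw [← hyr]; group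
    rw [e]
    exact Subgroup.mul_mem _ (Subgroup.mul_mem _ (Subgroup.inv_mem _ hy) h1)
      (Subgroup.inv_mem _ (Subgroup.inv_mem _ hy))
  apply hxP
  rw [Subgroup.mem_subgroupOf, ← hyr]
  exact Subgroup.mul_mem _ hy hrP

end Cfsg.Agent.NSC
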