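import Mathlib
import Cfsg.Prelude.Def_FusionComponents
import Cfsg.Agent.NSC.Basic
import Cfsg.Agent.OLV.ClaimC0
import Cfsg.Agent.Lead.FusionExt
import Cfsg.Agent.Lead.FusionStrongInvB

/-!
S5121, piece P4c (helper7): the `p'`-trick of Lemma X (`notes/S5121_helper5.md`, Step 7 (iii), (iv)).
-/

set_option autoImplicit false

namespace Cfsg.Agent.NSC

open Cfsg Cfsg.FusionSystem Cfsg.Agent.Lead Cfsg.Agent.Lead.StrongInv

variable {G : Type*} [Group G]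

/-- If `θ` normalizes the subgroup `N`, `b ∈ N` and `a = b θ`, then `a ^ j (θ ^ j)⁻¹ ∈ N`. -/
theorem nsc_pow_mul_inv_mem {A : Type*} [Group A] (N : Subgroup A) (b θ : A) (hb : b ∈ N)
    (hθ : ∀ j : ℕ, ∀ n ∈ N, θ ^ j * n * (θ ^ j)⁻¹ ∈ N) (j : ℕ) :
    (b * θ) ^ j * (θ ^ j)⁻¹ ∈ N := by
  induction j with
  | zero => simp
  | succ j ih =>
    have e : (b * θ) ^ (j + 1) * (θ ^ (j + 1))⁻¹ =
        ((b * θ) ^ j * (θ ^ j)⁻¹) * (θ ^ j * b * (θ ^ j)⁻¹) := by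
      rw [pow_succ, pow_succ]
      group
    rw [e]
    exact N.mul_mem ih (hθ j b hb)

/-- A `p'`-element `a = b θ` with `b ∈ N`, `θ` of `p`-power order and normalizing `N`, lies in `N`. -/
theorem nsc_mem_of_coprime {A : Type*} [Group A] (p : ℕ) (N : Subgroup A) (a b θ : A)
    (hab : a = b * θ) (hb : b ∈ N)
    (hθ : ∀ j : ℕ, ∀ n ∈ N, θ ^ j * n * (θ ^ j)⁻¹ ∈ N) (k : ℕ) (hk : orderOf θ = p ^ k)
    (hcop : (orderOf a).Coprime p) : a ∈ N := by
  have h1 := nsc_pow_mul_inv_mem N b θ hb hθ (p ^ k)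
  have h2 : θ ^ (p ^ k) = 1 := by rw [← hk]; exact pow_orderOf_eq_one θ
  rw [h2, inv_one, mul_one, ← hab] at h1
  have h3 : (p ^ k).Coprime (orderOf a) := (Nat.Coprime.pow_right k hcop).symm
  obtain ⟨m, hm⟩ := exists_pow_eq_self_of_coprime h3
  rw [← hm]
  exact N.pow_mem h1 m

theorem nsc_pprime_mem [Finite G] (p : ℕ) [Fact p.Prime] (S : Sylow p G) {T : Subgroup G} (hTS : T ≤ S)
    (R : Subgroup G) (hRn : R.Normal) (hRT : R ≤ T)
    (hcent : ∀ t ∈ T, t ∈ Subgroup.centralizer (R : Set G) → t ∈ R)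
    (E₁ E₂ : FusionSystem T) (h₂ : E₂.IsSaturated p)
    (h₁F : E₁.IsSubsystemOf (groupFusionSystem (S : Subgroup G)))
    (h₂F : E₂.IsSubsystemOf (groupFusionSystem (S : Subgroup G)))
    (hn : ∀ P : Subgroup G, P ≤ T → ∀ b ∈ (groupFusionSystem (S : Subgroup G)).autGroup P,
      ∀ a ∈ E₂.autGroup P, b * a * b⁻¹ ∈ E₂.autGroup P)
    (hR : E₁.autGroup R ≤ E₂.autGroup R) {P : Subgroup G} (hRP : R ≤ P) (hPT : P ≤ T)
    (a : MulAut P) (ha : a ∈ E₁.autGroup P) (hcop : (orderOf a).Coprime p) : a ∈ E₂.autGroup P := by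
  classical
  have hPS : P ≤ S := hPT.trans hTS
  have hCn : (Subgroup.centralizer (R : Set G)).Normal := inferInstance
  -- `a` is conjugation by `g`
  have haE : P.subtype.comp a.toMonoidHom ∈ E₁.Hom P := (Fusion.mem_autGroup_iff E₁ hPT a).mp ha
  obtain ⟨-, -, g, hg⟩ := h₁F P haE
  have hga : ∀ x : P, ((a x : P) : G) = g * x * g⁻¹ := fun x => hg x
  -- the restriction of `a` to `R`
  have hres := Fusion.restrict_mem E₁ haE hRP
  have hrange : ((P.subtype.comp a.toMonoidHom).comp (Subgroup.inclusion hRP)).range = R := by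
    ext z
    constructor
    · rintro ⟨r, rfl⟩
      show ((a (Subgroup.inclusion hRP r) : P) : G) ∈ R
      rw [hga]
      exact hRn.conj_mem _ r.2 g
    · intro hz
      have hz' : g⁻¹ * z * g ∈ R := by
        have := hRn.conj_mem z hz g⁻¹
        rwa [inv_inv] at this
      refine ⟨⟨g⁻¹ * z * g, hz'⟩, ?_⟩
      show ((a (Subgroup.inclusion hRP ⟨g⁻¹ * z * g, hz'⟩) : P) : G) = z
      rw [hga]
      show g * (g⁻¹ * z * g) * g⁻¹ = z
      group
  obtain ⟨αR, hαR, hαRv⟩ := Fusion.exists_aut_of_range_eq E₁ hres hrange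
  have hαRg : ∀ r : R, ((αR r : R) : G) = g * r * g⁻¹ := by
    intro r
    rw [hαRv]
    exact hga (Subgroup.inclusion hRP r)
  have hαR2 : αR ∈ E₂.autGroup R := hR hαR
  have hφR : R.subtype.comp αR.toMonoidHom ∈ E₂.Hom R := (Fusion.mem_autGroup_iff E₂ hRT αR).mp hαR2
  -- `R` is receptive in `E₂`
  obtain ⟨Q, ⟨φ, hφ, hφr⟩, -, hrec⟩ := h₂ R hRT
  have hQR : Q = R := by
    obtain ⟨-, -, k, hk⟩ := h₂F R hφ
    rw [← hφr]
    ext z
    constructor
    · rintro ⟨r, rfl⟩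
      rw [hk]
      exact hRn.conj_mem _ r.2 k
    · intro hz
      have hz' : k⁻¹ * z * k ∈ R := by
        have := hRn.conj_mem z hz k⁻¹
        rwa [inv_inv] at this
      refine ⟨⟨k⁻¹ * z * k, hz'⟩, ?_⟩
      rw [hk]
      show k * (k⁻¹ * z * k) * k⁻¹ = z
      group
  subst hQR
  -- `P` lies in the extender
  have hPext : P ≤ extender T Q (Q.subtype.comp αR.toMonoidHom) := by
    intro x hx
    apply Subgroup.subset_closure
    refine ⟨hPT hx, ?_, ((a ⟨x, hx⟩ : P) : G), hPT (a ⟨x, hx⟩).2, ?_⟩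
    · rw [Subgroup.normalizer_eq_top]
      exact Subgroup.mem_top x
    · intro r hr
      show ((αR ⟨x * r * x⁻¹, hr⟩ : Q) : G) = ((a ⟨x, hx⟩ : P) : G) * ((αR r : Q) : G) *
        ((a ⟨x, hx⟩ : P) : G)⁻¹
      rw [hαRg, hαRg, hga]
      show g * (x * r * x⁻¹) * g⁻¹ = g * x * g⁻¹ * (g * r * g⁻¹) * (g * x * g⁻¹)⁻¹
      group
  obtain ⟨ψ, hψ, hψv⟩ := hrec.2 Q _ hφR (range_aut Q αR)
  have hb0 := Fusion.restrict_mem E₂ hψ hPext
  set b0 : P →* G := ψ.comp (Subgroup.inclusion hPext) with hb0def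
  obtain ⟨-, -, k, hk⟩ := h₂F P hb0
  have hb0T : ∀ x : P, b0 x ∈ T := (E₂.le_of_mem hb0).2
  have hb0R : ∀ r : Q, b0 (Subgroup.inclusion hRP r) = g * r * g⁻¹ := by
    intro r
    have h1 := hψv r.1 r.2 (hPext (hRP r.2))
    have h2 : b0 (Subgroup.inclusion hRP r) = ψ ⟨r.1, hPext (hRP r.2)⟩ := rfl
    rw [h2, h1]
    exact hαRg r
  -- `g⁻¹ k` centralizes `R`
  have hc : g⁻¹ * k ∈ Subgroup.centralizer (Q : Set G) := by
    rw [Subgroup.mem_centralizer_iff]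
    intro r hr
    have h1 := hb0R ⟨r, hr⟩
    rw [hk] at h1
    have h2 : k * r * k⁻¹ = g * r * g⁻¹ := h1
    have h3 : r * (g⁻¹ * k) = g⁻¹ * (g * r * g⁻¹) * k := by group
    rw [h3, ← h2]
    group
  -- `b0 x ∈ a x * R`
  have hw : ∀ x : P, ((a x : P) : G)⁻¹ * b0 x ∈ Q := by
    intro x
    apply hcent
    · exact T.mul_mem (T.inv_mem (hPT (a x).2)) (hb0T x)
    · rw [hga, hk]
      have e : (g * (x : G) * g⁻¹)⁻¹ * (k * (x : G) * k⁻¹) =
          g * ((x : G)⁻¹ * (g⁻¹ * k) * (x : G)⁻¹⁻¹ * (g⁻¹ * k)⁻¹) * g⁻¹ := by group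
      rw [e]
      exact hCn.conj_mem _ (Subgroup.mul_mem _ (hCn.conj_mem _ hc _) (Subgroup.inv_mem _ hc)) g
  have hb0P : ∀ x : P, b0 x ∈ P := by
    intro x
    have h1 : b0 x = ((a x : P) : G) * (((a x : P) : G)⁻¹ * b0 x) := by group
    rw [h1]
    exact P.mul_mem (a x).2 (hRP (hw x))
  have hfinP : Finite P := inferInstance
  have hb0range : b0.range = P := by
    apply Subgroup.eq_of_le_of_card_ge
    · rintro _ ⟨x, rfl⟩
      exact hb0P x
    · have hinj := E₂.injective_of_mem hb0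
      exact (Nat.card_congr (MonoidHom.ofInjective hinj).toEquiv).le
  obtain ⟨b, hb, hbv⟩ := Fusion.exists_aut_of_range_eq E₂ hb0 hb0range
  -- `θ = b⁻¹ a`
  set θ : MulAut P := b⁻¹ * a with hθdef
  have hab : a = b * θ := by rw [hθdef]; group
  have hF1 : a ∈ (groupFusionSystem (S : Subgroup G)).autGroup P :=
    autGroup_le_of_subsystem _ E₁ h₁F P ha
  have hF2 : b ∈ (groupFusionSystem (S : Subgroup G)).autGroup P :=
    autGroup_le_of_subsystem _ E₂ h₂F P hb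
  have hθF : θ ∈ (groupFusionSystem (S : Subgroup G)).autGroup P :=
    Subgroup.mul_mem _ (Subgroup.inv_mem _ hF2) hF1
  have hθnorm : ∀ j : ℕ, ∀ n ∈ E₂.autGroup P, θ ^ j * n * (θ ^ j)⁻¹ ∈ E₂.autGroup P :=
    fun j n hn' => hn P hPT (θ ^ j) (Subgroup.pow_mem _ hθF j) n hn'
  -- `θ` fixes `R` pointwise
  have hbR : ∀ r : Q, b (Subgroup.inclusion hRP r) = a (Subgroup.inclusion hRP r) := by
    intro r
    apply Subtype.ext
    rw [hbv, hb0R, hga]
    rfl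
  have hθR : ∀ z ∈ Q.subgroupOf P, θ z = z := by
    intro z hz
    rw [Subgroup.mem_subgroupOf] at hz
    have h1 : z = Subgroup.inclusion hRP ⟨z.1, hz⟩ := rfl
    rw [hθdef, MulAut.mul_apply, h1, ← hbR, MulAut.inv_apply_self]
  have hθshift : ∀ y : P, y⁻¹ * θ y ∈ Q.subgroupOf P := by
    intro y
    rw [Subgroup.mem_subgroupOf]
    apply hcent
    · exact hPT (y⁻¹ * θ y).2
    · rw [Subgroup.mem_centralizer_iff]
      intro r hr
      -- `θ (y r y⁻¹) = y r y⁻¹`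
      have hyr : (y : G) * r * (y : G)⁻¹ ∈ Q := hRn.conj_mem r hr y
      have h1 : θ (y * ⟨r, hRP hr⟩ * y⁻¹) = y * ⟨r, hRP hr⟩ * y⁻¹ :=
        hθR _ (by rw [Subgroup.mem_subgroupOf]; exact hyr)
      have h2 : θ ⟨r, hRP hr⟩ = ⟨r, hRP hr⟩ :=
        hθR _ (by rw [Subgroup.mem_subgroupOf]; exact hr)
      rw [map_mul, map_mul, map_inv, h2] at h1
      have h3 : ((θ y : P) : G) * r * ((θ y : P) : G)⁻¹ = (y : G) * r * (y : G)⁻¹ :=
        congrArg (fun t : P => (t : G)) h1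
      show r * ((y : G)⁻¹ * ((θ y : P) : G)) = (y : G)⁻¹ * ((θ y : P) : G) * r
      have h4 : ((θ y : P) : G) * r = (y : G) * r * (y : G)⁻¹ * ((θ y : P) : G) := by
        rw [← h3]; group
      calc r * ((y : G)⁻¹ * ((θ y : P) : G))
          = (y : G)⁻¹ * ((y : G) * r * (y : G)⁻¹ * ((θ y : P) : G)) := by group
        _ = (y : G)⁻¹ * (((θ y : P) : G) * r) := by rw [h4]
        _ = (y : G)⁻¹ * ((θ y : P) : G) * r := by group
  have hPp : IsPGroup p P := S.2.to_le hPS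
  obtain ⟨k', hk'⟩ := Cfsg.Agent.OLV.olv_pElement_of_central_shift p hPp θ (Q.subgroupOf P) hθR hθshift
  exact nsc_mem_of_coprime p (E₂.autGroup P) a b θ hab hb hθnorm k' hk' hcop

end Cfsg.Agent.NSC
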