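import Mathlib
import Cfsg.Prelude.Def_FusionComponents
import Cfsg.Agent.NSC.Basic
import Cfsg.Agent.NSC.LemmaXa
import Cfsg.Agent.NSC.LemmaXb
import Cfsg.Agent.NSC.LemmaXc
import Cfsg.Agent.Lead.FusionAlperin
import Cfsg.Agent.Lead.FusionInner
import Cfsg.Agent.Lead.FusionSat2

/-!
S5121, piece P4d (helper7): Lemma X of `notes/S5121_helper5.md` (Step 7): two saturated subsystems
`E₁`, `E₂` over `T` of the fusion system of `G`, with `Aut_{E₂}(P)` normalized by `Aut_G(P)` for all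
`P ≤ T` and `Aut_{E₁}(R) ≤ Aut_{E₂}(R)` for a normal subgroup `R ≤ T` of `G` with `C_T(R) ≤ R`, satisfy
`E₁ ≤ E₂`.
-/

set_option autoImplicit false

namespace Cfsg.Agent.NSC

open Cfsg Cfsg.FusionSystem Cfsg.Agent.Lead Cfsg.Agent.Lead.StrongInv

variable {G : Type*} [Group G]

theorem nsc_le_of_aut_le [Finite G] (p : ℕ) [Fact p.Prime] (S : Sylow p G) {T : Subgroup G} (hTS : T ≤ S)
    (R : Subgroup G) (hRn : R.Normal) (hRT : R ≤ T)
    (hcent : ∀ t ∈ T, t ∈ Subgroup.centralizer (R : Set G) → t ∈ R)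
    (E₁ E₂ : FusionSystem T) (h₁ : E₁.IsSaturated p) (h₂ : E₂.IsSaturated p)
    (h₁F : E₁.IsSubsystemOf (groupFusionSystem (S : Subgroup G)))
    (h₂F : E₂.IsSubsystemOf (groupFusionSystem (S : Subgroup G)))
    (hn : ∀ P : Subgroup G, P ≤ T → ∀ b ∈ (groupFusionSystem (S : Subgroup G)).autGroup P,
      ∀ a ∈ E₂.autGroup P, b * a * b⁻¹ ∈ E₂.autGroup P)
    (hR : E₁.autGroup R ≤ E₂.autGroup R) : E₁.IsSubsystemOf E₂ := by
  have hT : IsPGroup p T := S.2.to_le hTS
  have hfinT : Finite T := inferInstance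
  have key : ∀ P : Subgroup G, P ≤ T → R ≤ P → E₁.IsFullyAutomized p P →
      E₁.autGroup P ≤ E₂.autGroup P := by
    intro P hPT hRP hfa
    apply nsc_autGroup_le_of_gen p hT E₁ hfa (E₂.autGroup P)
      (Fusion.autInducedBy_le_autGroup E₂ hPT)
    intro a ha hcop
    exact nsc_pprime_mem p S hTS R hRn hRT hcent E₁ E₂ h₂ h₁F h₂F hn hR hRP hPT a ha hcop
  have hle : E₁ ≤ E₂ := by
    apply Fusion.alperin p hT E₁ h₁ E₂
    intro P hP
    rcases hP with rfl | hess
    · exact key P le_rfl hRT (Fusion.top_fullyAutomized p E₁ h₁)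
    · have hPT : P ≤ T := hess.1.1
      have hfa := (Fusion.fullyCentralized_fullyAutomized_of_fullyNormalized p hT E₁ h₁ hess.2.1).2
      exact key P hPT (nsc_le_essential p S hTS R hRn hRT E₁ h₁F hess) hfa
  exact hle

end Cfsg.Agent.NSC
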