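import Mathlib
import Cfsg.Prelude.Def_FusionComponents
import Cfsg.Agent.NSC.Basic
import Cfsg.Agent.Lead.FusionCenterFactor
import Cfsg.Agent.Lead.SylowLemmas
import Cfsg.Agent.Lead.FusionSat2
import Cfsg.Agent.Lead.FusionExt
import Cfsg.Agent.Lead.PrimeIdxC
import Cfsg.Agent.Helper4.CyclicSylowA

set_option autoImplicit false
set_option linter.unusedSectionVars false

/-!
# S5121, part 2b (auxiliary file): `M` induces all of `Aut_E(R)` on `R`, modulo the Claim

`R = T ∩ O_p(G)` is normal in `G`, hence fully automized and receptive in `E`; the image `I` of `M` in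
`Aut_E(R)` is normal and contains the Sylow subgroup `Aut_T(R)`.  By the Frattini argument it is enough to
treat the `ν ∈ Aut_E(R)` normalizing `Aut_T(R)`: such a `ν` extends to `T`, then (extension condition) to
`T C_S(T)`, where it is conjugation by some `g ∈ G`; the `p'`-part of `g` lies in `M` by the Claim
(`nsc_claim`), the `p`-part of `g` induces a `p`-element of `Aut_E(R)`, which lies in `I`.
-/

namespace Cfsg.Agent.NSC

open Cfsg Cfsg.FusionSystem Cfsg.Agent.Lead Cfsg.Agent.Lead.StrongInv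

variable {G : Type*} [Group G] {p : ℕ} [Fact p.Prime] {S : Sylow p G} {T : Subgroup G}
  {E : FusionSystem T}

theorem nsc_isPGroup_T (h : Setup p S T E) : IsPGroup p T := S.isPGroup'.to_le h.le

/-- `R` is weakly closed in `E`. -/
theorem nscR_weaklyClosed (h : Setup p S T E) : E.WeaklyClosed (nscR p T) := by
  refine ⟨nscR_le, fun φ hφ => ?_⟩
  obtain ⟨-, -, g, hg⟩ := h.sub _ hφ
  apply le_antisymm
  · rintro _ ⟨x, rfl⟩
    rw [hg]
    exact nscR_conj_mem h x.2 g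
  · intro r hr
    have h1 : g⁻¹ * r * g⁻¹⁻¹ ∈ nscR p T := nscR_conj_mem h hr g⁻¹
    refine ⟨⟨_, h1⟩, ?_⟩
    rw [hg]
    show g * (g⁻¹ * r * g⁻¹⁻¹) * g⁻¹ = r
    group

/-- The elements of `Aut_E(P)` are conjugations by elements of `G`. -/
theorem nsc_exists_conj_of_mem_autGroup (h : Setup p S T E) {P : Subgroup G} (hP : P ≤ T)
    {a : MulAut P} (ha : a ∈ E.autGroup P) : ∃ g : G, ∀ x : P, ((a x : P) : G) = g * x * g⁻¹ := by
  have h1 := (Fusion.mem_autGroup_iff E hP a).mp ha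
  obtain ⟨-, -, g, hg⟩ := h.sub _ h1
  exact ⟨g, fun x => hg x⟩

/-- The image of `M` in `Aut(R)`. -/
def nscI (h : Setup p S T E) : Subgroup (MulAut (nscR p T)) where
  carrier := {a | ∃ g ∈ nscM h, ∀ r : nscR p T, ((a r : nscR p T) : G) = g * r * g⁻¹}
  one_mem' := ⟨1, Subgroup.one_mem _, fun r => by simp⟩
  mul_mem' := by
    rintro a b ⟨g, hg, hgv⟩ ⟨k, hk, hkv⟩
    refine ⟨g * k, Subgroup.mul_mem _ hg hk, fun r => ?_⟩
    rw [MulAut.mul_apply, hgv, hkv]
    group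
  inv_mem' := by
    rintro a ⟨g, hg, hgv⟩
    refine ⟨g⁻¹, Subgroup.inv_mem _ hg, fun r => ?_⟩
    have h1 := hgv (a⁻¹ r)
    rw [MulAut.apply_inv_self] at h1
    rw [h1]
    group

theorem mem_nscI (h : Setup p S T E) (a : MulAut (nscR p T)) :
    a ∈ nscI h ↔ ∃ g ∈ nscM h, ∀ r : nscR p T, ((a r : nscR p T) : G) = g * r * g⁻¹ := Iff.rfl

theorem nscConjR_mem_nscI (h : Setup p S T E) {g : G} (hg : g ∈ nscM h) : nscConjR h g ∈ nscI h :=
  ⟨g, hg, fun _ => rfl⟩

theorem nscI_le (h : Setup p S T E) : nscI h ≤ E.autGroup (nscR p T) := by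
  rintro a ⟨g, hg, hgv⟩
  obtain ⟨α, hα, hαv⟩ := hg.2
  have e : a = α := by
    ext r
    rw [hgv, hαv]
  rw [e]
  exact hα

/-- `I` is normal in `Aut_E(R)`. -/
theorem nscI_conj_mem (h : Setup p S T E) {a b : MulAut (nscR p T)} (ha : a ∈ nscI h)
    (hb : b ∈ E.autGroup (nscR p T)) : b * a * b⁻¹ ∈ nscI h := by
  obtain ⟨g, hg, hgv⟩ := ha
  obtain ⟨k, hk⟩ := nsc_exists_conj_of_mem_autGroup h nscR_le hb
  have hM := nscM_normal h
  refine ⟨k * g * k⁻¹, hM.conj_mem g hg k, fun r => ?_⟩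
  rw [MulAut.mul_apply, MulAut.mul_apply, hk, hgv]
  have h1 : ((b⁻¹ r : nscR p T) : G) = k⁻¹ * r * k := by
    have h2 := hk (b⁻¹ r)
    rw [MulAut.apply_inv_self] at h2
    rw [h2]
    group
  rw [h1]
  group

/-- `Aut_T(R) ≤ I`. -/
theorem nsc_autInducedBy_le_nscI (h : Setup p S T E) : autInducedBy T (nscR p T) ≤ nscI h := by
  unfold autInducedBy
  rw [Subgroup.closure_le]
  rintro α ⟨g, hg, hgv⟩
  exact ⟨g, le_nscM h hg, hgv⟩

/-- Conjugation on `R` as a homomorphism. -/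
noncomputable def nscConjRHom (h : Setup p S T E) : G →* MulAut (nscR p T) where
  toFun g := nscConjR h g
  map_one' := by
    ext r
    rw [nscConjR_apply]
    simp
  map_mul' a b := by
    ext r
    rw [MulAut.mul_apply, nscConjR_apply, nscConjR_apply, nscConjR_apply]
    group

theorem nscConjRHom_apply (h : Setup p S T E) (g : G) : nscConjRHom h g = nscConjR h g := rfl

section sylow

variable [Finite G]

theorem nscR_fullyNormalized (h : Setup p S T E) : E.IsFullyNormalized (nscR p T) :=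
  Fusion.fullyNormalized_of_weaklyClosed E (nscR_weaklyClosed h)

theorem nscR_fullyAutomized (h : Setup p S T E) : E.IsFullyAutomized p (nscR p T) :=
  (Fusion.fullyCentralized_fullyAutomized_of_fullyNormalized p (nsc_isPGroup_T h) E h.satE
    (nscR_fullyNormalized h)).2

theorem nscR_receptive (h : Setup p S T E) : E.IsReceptive (nscR p T) :=
  Fusion.receptive_of_fullyCentralized p (nsc_isPGroup_T h) E h.satE
    (Fusion.fullyCentralized_fullyAutomized_of_fullyNormalized p (nsc_isPGroup_T h) E h.satE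
      (nscR_fullyNormalized h)).1

/-- `|Aut_T(R)|` is the `p`-part of `|Aut_E(R)|`. -/
theorem nsc_card_autInducedBy (h : Setup p S T E) :
    Nat.card (autInducedBy T (nscR p T)) =
      p ^ (Nat.card (E.autGroup (nscR p T))).factorization p :=
  (exists_sylow_eq_subgroupOf_iff (E.autGroup (nscR p T)) (autInducedBy T (nscR p T))
    (Fusion.autInducedBy_le_autGroup E nscR_le)).mp (nscR_fullyAutomized h).2

/-- The `p`-elements of `Aut_E(R)` lie in `I`. -/
theorem nsc_pElement_mem_nscI (h : Setup p S T E) {x : MulAut (nscR p T)}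
    (hx : x ∈ E.autGroup (nscR p T)) (hxp : ∃ k : ℕ, x ^ (p ^ k) = 1) : x ∈ nscI h := by
  obtain ⟨k, hk⟩ := hxp
  have hZ : IsPGroup p (Subgroup.zpowers x) := by
    intro z
    obtain ⟨j, hj⟩ := Subgroup.mem_zpowers_iff.1 z.2
    refine ⟨k, Subtype.ext ?_⟩
    rw [Subgroup.coe_pow, ← hj, ← zpow_natCast, ← zpow_mul, mul_comm, zpow_mul, zpow_natCast, hk,
      one_zpow]
    rfl
  have hZA : Subgroup.zpowers x ≤ E.autGroup (nscR p T) := by
    rw [Subgroup.zpowers_le]; exact hx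
  obtain ⟨m, hm, hmU⟩ := exists_conj_le_of_card_eq_ppart
    (Fusion.autInducedBy_le_autGroup E nscR_le) (nsc_card_autInducedBy h) hZA hZ
  have h1 : m * x * m⁻¹ ∈ nscI h :=
    nsc_autInducedBy_le_nscI h (hmU ⟨x, Subgroup.mem_zpowers x, rfl⟩)
  have h2 := nscI_conj_mem h h1 (Subgroup.inv_mem _ hm)
  have e : m⁻¹ * (m * x * m⁻¹) * m⁻¹⁻¹ = x := by group
  rwa [e] at h2

/-- Frattini: every element of `Aut_E(R)` is, modulo `I`, an element normalizing `Aut_T(R)`. -/
theorem nsc_exists_normalizing (h : Setup p S T E) {a : MulAut (nscR p T)}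
    (ha : a ∈ E.autGroup (nscR p T)) :
    ∃ m ∈ nscI h, ∀ v ∈ autInducedBy T (nscR p T),
      (m * a) * v * (m * a)⁻¹ ∈ autInducedBy T (nscR p T) := by
  have hUI := nsc_autInducedBy_le_nscI h
  have hUp : IsPGroup p (autInducedBy T (nscR p T)) :=
    Fusion.isPGroup_autInducedBy p (nsc_isPGroup_T h) (nscR p T)
  have hUcardN := card_eq_ppart_of_le hUI (nscI_le h) hUp (nsc_card_autInducedBy h)
  have haU : (autInducedBy T (nscR p T)).map (MulAut.conj a).toMonoidHom ≤ nscI h := by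
    rintro _ ⟨u, hu, rfl⟩
    exact nscI_conj_mem h (hUI hu) ha
  obtain ⟨m, hm, hmU⟩ := exists_conj_le_of_card_eq_ppart hUI hUcardN haU (hUp.map _)
  refine ⟨m, hm, fun v hv => ?_⟩
  have h1 : m * (a * v * a⁻¹) * m⁻¹ ∈ autInducedBy T (nscR p T) :=
    hmU ⟨a * v * a⁻¹, ⟨v, hv, rfl⟩, rfl⟩
  have h2 : (m * a) * v * (m * a)⁻¹ = m * (a * v * a⁻¹) * m⁻¹ := by group
  rw [h2]; exact h1

end sylow

section extend

variable [Finite G]

/-- An element of `Aut_E(R)` normalizing `Aut_T(R)` extends to an element of `Aut_E(T)`. -/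
theorem nsc_extend_to_T (h : Setup p S T E) {ν : MulAut (nscR p T)}
    (hν : ν ∈ E.autGroup (nscR p T))
    (hνV : ∀ v ∈ autInducedBy T (nscR p T), ν * v * ν⁻¹ ∈ autInducedBy T (nscR p T)) :
    ∃ α ∈ E.autGroup T, ∀ r : nscR p T,
      ((α ⟨r, nscR_le r.2⟩ : T) : G) = ((ν r : nscR p T) : G) := by
  have hRT : nscR p T ≤ T := nscR_le
  have hrec := nscR_receptive h
  have hνhom := (Fusion.mem_autGroup_iff E hRT ν).mp hν
  have hle : T ≤ extender T (nscR p T) ((nscR p T).subtype.comp ν.toMonoidHom) := by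
    intro g hgT
    have hgN : g ∈ Subgroup.normalizer ((nscR p T : Subgroup G) : Set G) :=
      mem_normalizer_nscR h g
    apply Subgroup.subset_closure
    refine ⟨hgT, hgN, ?_⟩
    have hcU : conjAutHom (nscR p T) ⟨g, hgN⟩ ∈ autInducedBy T (nscR p T) :=
      Fusion.conjAutHom_mem_autInducedBy (nscR p T) ⟨g, hgN⟩ hgT
    have h1 : ν * conjAutHom (nscR p T) ⟨g, hgN⟩ * ν⁻¹ ∈ autInducedBy T (nscR p T) := hνV _ hcU
    rw [mem_autInducedBy_iff] at h1
    obtain ⟨k, hkT, hk⟩ := h1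
    refine ⟨k, hkT, fun x hx => ?_⟩
    have h2 := hk (ν x)
    show ((ν ⟨g * x * g⁻¹, hx⟩ : nscR p T) : G) = k * ((ν x : nscR p T) : G) * k⁻¹
    rw [← h2]
    simp only [MulAut.mul_apply, MulAut.inv_apply_self]
    rfl
  obtain ⟨ψ', hψ', hext⟩ := hrec.2 (nscR p T) _ hνhom (range_aut (nscR p T) ν)
  have hα := Fusion.restrict_mem E hψ' hle
  have hr : (ψ'.comp (Subgroup.inclusion hle)).range = T :=
    (Fusion.weaklyClosed_of_stronglyClosed E (PrimeIdx.stronglyClosed_top E)).2 _ hα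
  obtain ⟨α, hαA, hαv⟩ := Fusion.exists_aut_of_range_eq E hα hr
  refine ⟨α, hαA, fun r => ?_⟩
  rw [hαv]
  exact hext r.1 r.2 (hle (hRT r.2))

end extend

section ext

/-- Conjugation by an element of `N_G(T)` preserves `Z(T)`. -/
theorem nsc_conj_mem_center {x z : G} (hx : x ∈ Subgroup.normalizer (T : Set G))
    (hz : z ∈ T ⊓ Subgroup.centralizer (T : Set G)) :
    x * z * x⁻¹ ∈ T ⊓ Subgroup.centralizer (T : Set G) := by
  refine ⟨(Subgroup.mem_normalizer_iff.mp hx z).mp hz.1, ?_⟩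
  show x * z * x⁻¹ ∈ Subgroup.centralizer (T : Set G)
  rw [Subgroup.mem_centralizer_iff]
  intro t ht
  have ht' : x⁻¹ * t * x⁻¹⁻¹ ∈ T :=
    (Subgroup.mem_normalizer_iff.mp (Subgroup.inv_mem _ hx) t).mp ht
  have h1 := (Subgroup.mem_centralizer_iff.mp hz.2) _ ht'
  have e1 : t * (x * z * x⁻¹) = x * (x⁻¹ * t * x⁻¹⁻¹ * z) * x⁻¹ := by group
  have e2 : x * z * x⁻¹ * t = x * (z * (x⁻¹ * t * x⁻¹⁻¹)) * x⁻¹ := by group
  rw [e1, e2, h1]

/-- The elements of `N_G(T)` inducing an element of `Aut_E(T)` on `T` and centralizing `C_S(T)` modulo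
`Z(T)`. -/
def nscX (_h : Setup p S T E) : Subgroup G where
  carrier := {x | x ∈ Subgroup.normalizer (T : Set G) ∧
    (∃ α ∈ E.autGroup T, ∀ t : T, ((α t : T) : G) = x * t * x⁻¹) ∧
    ∀ c ∈ centralizerIn (S : Subgroup G) T,
      c⁻¹ * (x * c * x⁻¹) ∈ T ⊓ Subgroup.centralizer (T : Set G)}
  one_mem' := by
    refine ⟨Subgroup.one_mem _, ⟨1, Subgroup.one_mem _, fun t => by simp⟩, fun c _ => ?_⟩
    have e : c⁻¹ * (1 * c * 1⁻¹) = 1 := by group
    rw [e]
    exact Subgroup.one_mem _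
  mul_mem' := by
    rintro x y ⟨hxN, ⟨α, hα, hαv⟩, hxC⟩ ⟨hyN, ⟨β, hβ, hβv⟩, hyC⟩
    refine ⟨Subgroup.mul_mem _ hxN hyN, ⟨α * β, Subgroup.mul_mem _ hα hβ, fun t => ?_⟩,
      fun c hc => ?_⟩
    · rw [MulAut.mul_apply, hαv, hβv]
      group
    · have e : c⁻¹ * (x * y * c * (x * y)⁻¹) =
          c⁻¹ * (x * c * x⁻¹) * (x * (c⁻¹ * (y * c * y⁻¹)) * x⁻¹) := by group
      rw [e]
      exact Subgroup.mul_mem _ (hxC c hc) (nsc_conj_mem_center hxN (hyC c hc))
  inv_mem' := by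
    rintro x ⟨hxN, ⟨α, hα, hαv⟩, hxC⟩
    refine ⟨Subgroup.inv_mem _ hxN, ⟨α⁻¹, Subgroup.inv_mem _ hα, fun t => ?_⟩, fun c hc => ?_⟩
    · have h1 := hαv (α⁻¹ t)
      rw [MulAut.apply_inv_self] at h1
      rw [h1]
      group
    · have e : c⁻¹ * (x⁻¹ * c * x⁻¹⁻¹) = x⁻¹ * (c⁻¹ * (x * c * x⁻¹))⁻¹ * x⁻¹⁻¹ := by group
      rw [e]
      exact nsc_conj_mem_center (Subgroup.inv_mem _ hxN) (Subgroup.inv_mem _ (hxC c hc))

theorem mem_nscX (h : Setup p S T E) (x : G) :
    x ∈ nscX h ↔ x ∈ Subgroup.normalizer (T : Set G) ∧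
      (∃ α ∈ E.autGroup T, ∀ t : T, ((α t : T) : G) = x * t * x⁻¹) ∧
      ∀ c ∈ centralizerIn (S : Subgroup G) T,
        c⁻¹ * (x * c * x⁻¹) ∈ T ⊓ Subgroup.centralizer (T : Set G) := Iff.rfl

/-- The extension condition: every element of `Aut_E(T)` is induced by an element of `X`. -/
theorem nsc_exists_mem_nscX (h : Setup p S T E) {α : MulAut T} (hα : α ∈ E.autGroup T) :
    ∃ g ∈ nscX h, ∀ t : T, ((α t : T) : G) = g * t * g⁻¹ := by
  obtain ⟨β, hβ, hβα, hβc⟩ := h.nrm.2 α hα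
  have hle : T ⊔ centralizerIn (S : Subgroup G) T ≤ (S : Subgroup G) := sup_le h.le inf_le_left
  have h1 := (Fusion.mem_autGroup_iff _ hle β).mp hβ
  obtain ⟨-, -, g, hg⟩ := h1
  have hgT : ∀ t : T, ((α t : T) : G) = g * t * g⁻¹ := by
    intro t
    rw [← hβα t]
    exact hg (Subgroup.inclusion le_sup_left t)
  refine ⟨g, ⟨?_, ⟨α, hα, hgT⟩, fun c hc => ?_⟩, hgT⟩
  · rw [Subgroup.mem_normalizer_iff]
    intro t
    constructor
    · intro ht
      have := hgT ⟨t, ht⟩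
      rw [← this]
      exact (α ⟨t, ht⟩).2
    · intro ht
      have h2 := hgT (α⁻¹ ⟨g * t * g⁻¹, ht⟩)
      rw [MulAut.apply_inv_self] at h2
      have h3 : t = ((α⁻¹ ⟨g * t * g⁻¹, ht⟩ : T) : G) :=
        mul_left_cancel (mul_right_cancel h2)
      rw [h3]
      exact (α⁻¹ ⟨g * t * g⁻¹, ht⟩).2
  · have hc' : c ∈ T ⊔ centralizerIn (S : Subgroup G) T := le_sup_right (a := T) hc
    have h2 := hβc ⟨c, hc'⟩ hc
    have h3 : ((β ⟨c, hc'⟩ : ↥(T ⊔ centralizerIn (S : Subgroup G) T)) : G) = g * c * g⁻¹ :=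
      hg ⟨c, hc'⟩
    rw [h3] at h2
    exact h2

/-- The elements of `X` induce elements of `Aut_E(R)` on `R`. -/
theorem nscConjR_mem_autGroup (h : Setup p S T E) {g : G} (hg : g ∈ nscX h) :
    nscConjR h g ∈ E.autGroup (nscR p T) := by
  obtain ⟨-, ⟨α, hα, hαv⟩, -⟩ := hg
  have h1 := (Fusion.mem_autGroup_iff E le_rfl α).mp hα
  have h2 := Fusion.restrict_mem E h1 (nscR_le (p := p) (T := T))
  rw [Fusion.mem_autGroup_iff E nscR_le]
  have e : (nscR p T).subtype.comp (nscConjR h g).toMonoidHom =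
      (T.subtype.comp α.toMonoidHom).comp (Subgroup.inclusion nscR_le) := by
    ext r
    exact (hαv (Subgroup.inclusion nscR_le r)).symm
  rw [e]
  exact h2

variable [Finite G]

/-- The elements of `X` induce elements of `I` on `R`, given the Claim (`nsc_claim`). -/
theorem nscConjR_mem_nscI_of_mem_nscX (h : Setup p S T E)
    (hclaim : ∀ u ∈ nscX h, (orderOf u).Coprime p → u ∈ nscM h) {g : G} (hg : g ∈ nscX h) :
    nscConjR h g ∈ nscI h := by
  obtain ⟨a, b, ha, hb, hab, hcop, k, hk⟩ := Cfsg.Agent.Helper4.exists_p_part_decomp p g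
  have hZ : Subgroup.zpowers g ≤ nscX h := by
    rw [Subgroup.zpowers_le]; exact hg
  have haX := hZ ha
  have hbX := hZ hb
  have haM : a ∈ nscM h := hclaim a haX hcop
  have h1 : nscConjR h a ∈ nscI h := nscConjR_mem_nscI h haM
  have h2 : nscConjR h b ∈ nscI h := by
    apply nsc_pElement_mem_nscI h (nscConjR_mem_autGroup h hbX)
    refine ⟨k, ?_⟩
    rw [← nscConjRHom_apply, ← map_pow, hk, map_one]
  have h3 : nscConjR h g = nscConjR h a * nscConjR h b := by
    rw [hab, ← nscConjRHom_apply, map_mul]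
    rfl
  rw [h3]
  exact Subgroup.mul_mem _ h1 h2

/-- `M` induces all of `Aut_E(R)` on `R`, given the Claim (`nsc_claim`). -/
theorem nscM_onto_of_claim (h : Setup p S T E)
    (hclaim : ∀ u ∈ nscX h, (orderOf u).Coprime p → u ∈ nscM h) :
    ∀ α ∈ E.autGroup (nscR p T), ∃ g ∈ nscM h, ∀ r : nscR p T,
      ((α r : nscR p T) : G) = g * r * g⁻¹ := by
  intro a ha
  obtain ⟨m, hm, hmV⟩ := nsc_exists_normalizing h ha
  have hν : m * a ∈ E.autGroup (nscR p T) := Subgroup.mul_mem _ (nscI_le h hm) ha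
  obtain ⟨α, hα, hαv⟩ := nsc_extend_to_T h hν hmV
  obtain ⟨g, hg, hgv⟩ := nsc_exists_mem_nscX h hα
  have e : m * a = nscConjR h g := by
    ext r
    rw [← hαv, hgv]
    rfl
  have h1 : m * a ∈ nscI h := by
    rw [e]
    exact nscConjR_mem_nscI_of_mem_nscX h hclaim hg
  have h2 : a ∈ nscI h := by
    have h3 := Subgroup.mul_mem _ (Subgroup.inv_mem _ hm) h1
    rwa [inv_mul_cancel_left] at h3
  exact h2

end ext

end Cfsg.Agent.NSC
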