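import Mathlib
import Cfsg.Prelude.Def_FusionComponents
import Cfsg.Agent.NSC.Basic
import Cfsg.Agent.NSC.Claim
import Cfsg.Agent.NSC.OntoAux

set_option autoImplicit false
set_option linter.unusedSectionVars false

/-!
# S5121, part 2b: `M` induces all of `Aut_E(R)` on `R`

See `NSC/OntoAux.lean` for the argument; here the Claim (`nsc_claim`, `NSC/Claim.lean`) is plugged in.
-/

namespace Cfsg.Agent.NSC

open Cfsg Cfsg.FusionSystem Cfsg.Agent.Lead Cfsg.Agent.Lead.StrongInv

variable {G : Type*} [Group G] {p : ℕ} [Fact p.Prime] {S : Sylow p G} {T : Subgroup G}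
  {E : FusionSystem T}

/-- `M` induces all of `Aut_E(R)` on `R`. -/
theorem nscM_onto [Finite G] (h : Setup p S T E) :
    ∀ α ∈ E.autGroup (nscR p T), ∃ g ∈ nscM h, ∀ r : nscR p T,
      ((α r : nscR p T) : G) = g * r * g⁻¹ :=
  nscM_onto_of_claim h fun _ hu hcop => nsc_claim h hcop hu.1 hu.2.1 hu.2.2

end Cfsg.Agent.NSC
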