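import Mathlib
import Cfsg.Prelude.Def_FusionComponents
import Cfsg.Agent.NSC.Basic
import Cfsg.Agent.NSC.Cent
import Cfsg.Agent.Helper4.PElementFiber

set_option autoImplicit false
set_option linter.unusedSectionVars false

/-!
# S5121, part 3b (first half): `M = O^p(M) (S ∩ M)` and `H = O^p(M) T` is normal in `G`
-/

namespace Cfsg.Agent.NSC

open Cfsg Cfsg.FusionSystem Cfsg.Agent.Lead Cfsg.Agent.Lead.StrongInv

variable {G : Type*} [Group G] {p : ℕ} [Fact p.Prime] {S : Sylow p G} {T : Subgroup G}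
  {E : FusionSystem T}

/-- A power of `g` by the `p`-part of its order has order prime to `p`. -/
theorem nsc_pow_ordProj_coprime [Finite G] (p : ℕ) [Fact p.Prime] (g : G) :
    (orderOf (g ^ p ^ (orderOf g).factorization p)).Coprime p := by
  have hp : p.Prime := Fact.out
  have hn : orderOf g ≠ 0 := (orderOf_pos g).ne'
  have hdvd : p ^ (orderOf g).factorization p ∣ orderOf g := Nat.ordProj_dvd _ _
  rw [orderOf_pow_of_dvd (pow_ne_zero _ hp.ne_zero) hdvd]
  exact (Nat.coprime_ordCompl hp hn).symm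

/-- If the normal subgroup `N ≤ M` contains every element of `M` of order prime to `p`, then
`M = N (S ∩ M)` for a Sylow `p`-subgroup `S` of `G` (`M` normal in `G`). -/
theorem nsc_le_sup_sylow [Finite G] (S : Sylow p G) (M N : Subgroup G) [hM : M.Normal]
    [hNn : N.Normal] (_hNM : N ≤ M) (hN : ∀ g ∈ M, (orderOf g).Coprime p → g ∈ N) :
    M ≤ N ⊔ ((S : Subgroup G) ⊓ M) := by
  have hp : p.Prime := Fact.out
  rw [← Subgroup.relIndex_eq_one]
  -- the quotient `M / N` is a `p`-group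
  have hquot : IsPGroup p (↥M ⧸ N.subgroupOf M) := by
    intro q
    obtain ⟨g, rfl⟩ := QuotientGroup.mk_surjective q
    refine ⟨(orderOf (g : G)).factorization p, ?_⟩
    rw [← QuotientGroup.mk_pow, QuotientGroup.eq_one_iff, Subgroup.mem_subgroupOf]
    have h1 : ((g ^ p ^ (orderOf (g : G)).factorization p : ↥M) : G) =
        (g : G) ^ p ^ (orderOf (g : G)).factorization p := by
      simp
    rw [h1]
    exact hN _ (Subgroup.pow_mem _ g.2 _) (nsc_pow_ordProj_coprime p (g : G))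
  obtain ⟨n, hn⟩ := IsPGroup.iff_card.mp hquot
  have h1 : N.relIndex M = p ^ n := by
    rw [Subgroup.relIndex, Subgroup.index_eq_card]; exact hn
  -- the index of `S ∩ M` in `M` is prime to `p`
  have hcard : Nat.card ↥(((S : Subgroup G) ⊓ M).subgroupOf M) =
      p ^ (Nat.card ↥M).factorization p := by
    rw [← Cfsg.Agent.Helper4.card_sylow_inf_normal' p S M]
    exact Nat.card_congr (Subgroup.subgroupOfEquivOfLe inf_le_right).toEquiv
  have h2 : ¬ p ∣ ((S : Subgroup G) ⊓ M).relIndex M := by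
    have h3 := (Sylow.ofCard (((S : Subgroup G) ⊓ M).subgroupOf M) hcard).not_dvd_index
    rwa [Sylow.coe_ofCard] at h3
  have d1 : (N ⊔ ((S : Subgroup G) ⊓ M)).relIndex M ∣ p ^ n := by
    rw [← h1]; exact Subgroup.relIndex_dvd_of_le_left M le_sup_left
  have d2 : (N ⊔ ((S : Subgroup G) ⊓ M)).relIndex M ∣ ((S : Subgroup G) ⊓ M).relIndex M :=
    Subgroup.relIndex_dvd_of_le_left M le_sup_right
  obtain ⟨m, _, hm⟩ := (Nat.dvd_prime_pow hp).mp d1
  rcases Nat.eq_zero_or_pos m with h0 | hpos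
  · rw [hm, h0, pow_zero]
  · exfalso
    apply h2
    refine dvd_trans ?_ d2
    rw [hm]
    exact dvd_pow_self p hpos.ne'

/-- `M = O^p(M) (S ∩ M)`. -/
theorem nscM_le_sup [Finite G] (h : Setup p S T E) :
    nscM h ≤ nscOp h ⊔ ((S : Subgroup G) ⊓ nscM h) := by
  have := nscM_normal h
  have := nscOp_normal h
  exact nsc_le_sup_sylow S (nscM h) (nscOp h) (nscOp_le h)
    (fun g hg hc => Subgroup.subset_closure ⟨hg, hc⟩)

theorem nscH_mem_iff (h : Setup p S T E) (x : G) :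
    x ∈ nscH h ↔ ∃ o ∈ nscOp h, ∃ t ∈ T, x = o * t := by
  have := nscOp_normal h
  rw [nscH, ← SetLike.mem_coe, Subgroup.normal_mul, Set.mem_mul]
  constructor
  · rintro ⟨o, ho, t, ht, rfl⟩
    exact ⟨o, ho, t, ht, rfl⟩
  · rintro ⟨o, ho, t, ht, rfl⟩
    exact ⟨o, ho, t, ht, rfl⟩

theorem nscM_exists_mul [Finite G] (h : Setup p S T E) {g : G} (hg : g ∈ nscM h) :
    ∃ o ∈ nscOp h, ∃ s ∈ (S : Subgroup G) ⊓ nscM h, g = o * s := by
  have := nscOp_normal h
  have h1 := nscM_le_sup h hg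
  rw [← SetLike.mem_coe, Subgroup.normal_mul, Set.mem_mul] at h1
  obtain ⟨o, ho, s, hs, rfl⟩ := h1
  exact ⟨o, ho, s, hs, rfl⟩

/-- conjugates of `T` by elements of `M` lie in `H` -/
theorem nscH_conj_mem_of_nscM [Finite G] (h : Setup p S T E) {m t : G} (hm : m ∈ nscM h)
    (ht : t ∈ T) : m * t * m⁻¹ ∈ nscH h := by
  obtain ⟨o, ho, s, hs, rfl⟩ := nscM_exists_mul h hm
  have h1 : s * t * s⁻¹ ∈ T := h.conj_mem_of_mem hs.1 ht
  have e : o * s * t * (o * s)⁻¹ = o * (s * t * s⁻¹) * o⁻¹ := by group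
  rw [e]
  have hoH : o ∈ nscH h := (le_sup_left : nscOp h ≤ nscH h) ho
  exact Subgroup.mul_mem _ (Subgroup.mul_mem _ hoH (le_nscH h h1)) (Subgroup.inv_mem _ hoH)

/-- the normalizer of `S ∩ M` normalizes `T` (strong closure) -/
theorem nsc_conj_mem_of_normalizer (h : Setup p S T E) {n t : G}
    (hn : n ∈ Subgroup.normalizer (((S : Subgroup G) ⊓ nscM h : Subgroup G) : Set G))
    (ht : t ∈ T) : n * t * n⁻¹ ∈ T := by
  have h1 : t ∈ (S : Subgroup G) ⊓ nscM h := ⟨h.le ht, le_nscM h ht⟩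
  have h2 := (Subgroup.mem_normalizer_iff.mp hn t).mp h1
  exact h.conj_mem ht h2.1

theorem nscH_conj_mem [Finite G] (h : Setup p S T E) {t : G} (ht : t ∈ T) (g : G) :
    g * t * g⁻¹ ∈ nscH h := by
  have := nscM_normal h
  have hcard : Nat.card ↥(((S : Subgroup G) ⊓ nscM h).subgroupOf (nscM h)) =
      p ^ (Nat.card ↥(nscM h)).factorization p := by
    rw [← Cfsg.Agent.Helper4.card_sylow_inf_normal' p S (nscM h)]
    exact Nat.card_congr (Subgroup.subgroupOfEquivOfLe inf_le_right).toEquiv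
  have hfrat := Sylow.normalizer_sup_eq_top
    (Sylow.ofCard (((S : Subgroup G) ⊓ nscM h).subgroupOf (nscM h)) hcard)
  rw [Sylow.coe_ofCard, Subgroup.subgroupOf_map_subtype, inf_of_le_left inf_le_right,
    sup_comm] at hfrat
  have hg : g ∈ nscM h ⊔
      Subgroup.normalizer (((S : Subgroup G) ⊓ nscM h : Subgroup G) : Set G) := by
    rw [hfrat]; exact Subgroup.mem_top g
  rw [← SetLike.mem_coe, Subgroup.normal_mul, Set.mem_mul] at hg
  obtain ⟨m, hm, n, hn, rfl⟩ := hg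
  have e : m * n * t * (m * n)⁻¹ = m * (n * t * n⁻¹) * m⁻¹ := by group
  rw [e]
  exact nscH_conj_mem_of_nscM h hm (nsc_conj_mem_of_normalizer h hn ht)

theorem nscH_normal [Finite G] (h : Setup p S T E) : (nscH h).Normal := by
  have hOp := nscOp_normal h
  refine ⟨fun x hx g => ?_⟩
  obtain ⟨o, ho, t, ht, rfl⟩ := (nscH_mem_iff h x).mp hx
  have e : g * (o * t) * g⁻¹ = g * o * g⁻¹ * (g * t * g⁻¹) := by group
  rw [e]
  exact Subgroup.mul_mem _ ((le_sup_left : nscOp h ≤ nscH h) (hOp.conj_mem o ho g))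
    (nscH_conj_mem h ht g)

end Cfsg.Agent.NSC
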