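import Mathlib
import Cfsg.Prelude.Def_FusionComponents
import Cfsg.Agent.NSC.Basic
import Cfsg.Agent.NSC.Cent
import Cfsg.Agent.NSC.Focal
import Cfsg.Agent.NSC.SylowA

set_option autoImplicit false
set_option linter.unusedSectionVars false

/-!
# S5121, part 3b (second half): `S ∩ H = T`, `H` is normal in `G`, `T` is a Sylow `p`-subgroup of `H`, `ρ(H) = ρ(M)`
-/

namespace Cfsg.Agent.NSC

open Cfsg Cfsg.FusionSystem Cfsg.Agent.Lead Cfsg.Agent.Lead.StrongInv

variable {G : Type*} [Group G] {p : ℕ} [Fact p.Prime] {S : Sylow p G} {T : Subgroup G}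
  {E : FusionSystem T}

theorem nsc_S_inf_H [Finite G] (h : Setup p S T E) : (S : Subgroup G) ⊓ nscH h = T := by
  apply le_antisymm
  · rintro x ⟨hxS, hxH⟩
    obtain ⟨o, ho, t, ht, rfl⟩ := (nscH_mem_iff h x).mp hxH
    have hoS : o ∈ (S : Subgroup G) := by
      have h1 := Subgroup.mul_mem _ hxS (Subgroup.inv_mem _ (h.le ht))
      rwa [mul_inv_cancel_right] at h1
    exact Subgroup.mul_mem _ (nsc_S_inf_Op h ⟨hoS, ho⟩) ht
  · exact le_inf h.le (le_nscH h)

theorem nscH_card [Finite G] (h : Setup p S T E) :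
    Nat.card T = p ^ (Nat.card (nscH h)).factorization p := by
  have := nscH_normal h
  have h1 := Cfsg.Agent.Helper4.card_sylow_inf_normal' p S (nscH h)
  rw [nsc_S_inf_H h] at h1
  exact h1

theorem nscH_sylow [Finite G] (h : Setup p S T E) :
    ∃ R : Sylow p (nscH h), (R : Subgroup (nscH h)) = T.subgroupOf (nscH h) := by
  have hcard : Nat.card ↥(T.subgroupOf (nscH h)) = p ^ (Nat.card ↥(nscH h)).factorization p := by
    rw [← nscH_card h]
    exact Nat.card_congr (Subgroup.subgroupOfEquivOfLe (le_nscH h)).toEquiv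
  exact ⟨Sylow.ofCard (T.subgroupOf (nscH h)) hcard, Sylow.coe_ofCard _ _⟩

/-- rho(H) = rho(M) -/
theorem nscH_covers [Finite G] (h : Setup p S T E) :
    ∀ g ∈ nscM h, ∃ k ∈ nscH h, ∀ r ∈ nscR p T, k * r * k⁻¹ = g * r * g⁻¹ := by
  intro g hg
  obtain ⟨o, ho, s, hs, rfl⟩ := nscM_exists_mul h hg
  obtain ⟨t, ht, z, hz, rfl⟩ := nsc_S_inf_M h hs.1 hs.2
  refine ⟨o * t, (nscH_mem_iff h _).mpr ⟨o, ho, t, ht, rfl⟩, fun r hr => ?_⟩
  have h1 : r * z = z * r := (Subgroup.mem_centralizer_iff.mp hz.2) r hr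
  have e : o * (t * z) * r * (o * (t * z))⁻¹ = o * t * (z * r * z⁻¹) * (o * t)⁻¹ := by group
  rw [e, ← h1, mul_inv_cancel_right]

end Cfsg.Agent.NSC
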