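import Mathlib
import Cfsg.Prelude.Def_FusionComponents
import Cfsg.Agent.NSC.Basic
import Cfsg.Agent.NSC.Cent
import Cfsg.Agent.NSC.Onto
import Cfsg.Agent.NSC.Sylow
import Cfsg.Agent.NSC.LemmaX
import Cfsg.Agent.Lead.FusionNormalSub
import Cfsg.Agent.Lead.FusionStrongInvB

/-!
S5121, piece P5 (helper7): `F_T(H) = E` (Step 7 of `notes/S5121_helper5.md`): Lemma X applied twice.
-/

set_option autoImplicit false

namespace Cfsg.Agent.NSC

open Cfsg Cfsg.FusionSystem Cfsg.Agent.Lead Cfsg.Agent.Lead.StrongInv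

variable {G : Type*} [Group G] {p : ℕ} [Fact p.Prime] {S : Sylow p G} {T : Subgroup G}
  {E : FusionSystem T}

/-- The fusion system of a subgroup `H ≥ T` on `T ≤ S` is a subsystem of the fusion system of `G`
on `S`. -/
theorem nsc_ofSubgroup_le (S : Sylow p G) {T : Subgroup G} (hTS : T ≤ S) (H : Subgroup G)
    (hTH : T ≤ H) :
    (fusionSystemOfSubgroup H T hTH).IsSubsystemOf (groupFusionSystem (S : Subgroup G)) := by
  rintro P φ ⟨hPT, hφT, g, -, hg⟩
  exact ⟨hPT.trans hTS, fun x => hTS (hφT x), g, hg⟩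

/-- An automorphism of `P ≤ T` lies in `Aut_{F_T(H)}(P)` iff it is induced by an element of `H`. -/
theorem nsc_mem_autGroup_ofSubgroup {T : Subgroup G} (H : Subgroup G) (hTH : T ≤ H)
    {P : Subgroup G} (hPT : P ≤ T) (a : MulAut P) :
    a ∈ (fusionSystemOfSubgroup H T hTH).autGroup P ↔
      ∃ k ∈ H, ∀ x : P, ((a x : P) : G) = k * x * k⁻¹ := by
  rw [Fusion.mem_autGroup_iff _ hPT]
  constructor
  · rintro ⟨-, -, k, hk, hkv⟩
    exact ⟨k, hk, fun x => hkv x⟩
  · rintro ⟨k, hk, hkv⟩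
    exact ⟨hPT, fun x => hPT (a x).2, k, hk, fun x => hkv x⟩

/-- `Aut_{F_T(H)}(P)` is normalized by `Aut_G(P)` when `H` is normal in `G`. -/
theorem nsc_conj_mem_ofSubgroup (S : Sylow p G) {T : Subgroup G} (hTS : T ≤ S) (H : Subgroup G)
    (hTH : T ≤ H) (hHn : H.Normal) {P : Subgroup G} (hPT : P ≤ T) (b a : MulAut P)
    (hb : b ∈ (groupFusionSystem (S : Subgroup G)).autGroup P)
    (ha : a ∈ (fusionSystemOfSubgroup H T hTH).autGroup P) :
    b * a * b⁻¹ ∈ (fusionSystemOfSubgroup H T hTH).autGroup P := by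
  rw [nsc_mem_autGroup_ofSubgroup H hTH hPT] at ha ⊢
  obtain ⟨k, hk, hkv⟩ := ha
  obtain ⟨-, -, g, hg⟩ := (Fusion.mem_autGroup_iff _ (hPT.trans hTS) b).mp hb
  have hgb : ∀ x : P, ((b x : P) : G) = g * x * g⁻¹ := fun x => hg x
  refine ⟨g * k * g⁻¹, hHn.conj_mem k hk g, fun x => ?_⟩
  rw [MulAut.mul_apply, MulAut.mul_apply, hgb, hkv]
  have h1 : ((b⁻¹ x : P) : G) = g⁻¹ * x * g := by
    have h2 := hgb (b⁻¹ x)
    rw [MulAut.apply_inv_self] at h2
    rw [h2]
    group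
  rw [h1]
  group

theorem nsc_hom_eq [Finite G] (h : Setup p S T E) :
    ∀ P : Subgroup G, E.Hom P = (fusionSystemOfSubgroup (nscH h) T (le_nscH h)).Hom P := by
  have hRn := nscR_normal h
  have hHn := nscH_normal h
  have hcent : ∀ t ∈ T, t ∈ Subgroup.centralizer ((nscR p T : Subgroup G) : Set G) → t ∈ nscR p T :=
    fun t ht hc => nsc_centralizer_le h ht hc
  have hsat' : (fusionSystemOfSubgroup (nscH h) T (le_nscH h)).IsSaturated p :=
    Fusion.fusionSystemOfSubgroup_isSaturated p (nscH h) T (le_nscH h) (nscH_card h)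
  have hsub' := nsc_ofSubgroup_le S h.le (nscH h) (le_nscH h)
  -- `Aut_E(P)` is normalized by `Aut_G(P)`
  have hnE : ∀ P : Subgroup G, P ≤ T → ∀ b ∈ (groupFusionSystem (S : Subgroup G)).autGroup P,
      ∀ a ∈ E.autGroup P, b * a * b⁻¹ ∈ E.autGroup P :=
    fun P hPT b hb a ha => conj_mem_autGroup _ E h.si h.le hPT b a hb ha
  have hnH : ∀ P : Subgroup G, P ≤ T → ∀ b ∈ (groupFusionSystem (S : Subgroup G)).autGroup P,
      ∀ a ∈ (fusionSystemOfSubgroup (nscH h) T (le_nscH h)).autGroup P,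
        b * a * b⁻¹ ∈ (fusionSystemOfSubgroup (nscH h) T (le_nscH h)).autGroup P :=
    fun P hPT b hb a ha => nsc_conj_mem_ofSubgroup S h.le (nscH h) (le_nscH h) hHn hPT b a hb ha
  -- the automorphisms of `R`
  have hR1 : (fusionSystemOfSubgroup (nscH h) T (le_nscH h)).autGroup (nscR p T) ≤
      E.autGroup (nscR p T) := by
    intro a ha
    rw [nsc_mem_autGroup_ofSubgroup (nscH h) (le_nscH h) nscR_le] at ha
    obtain ⟨k, hk, hkv⟩ := ha
    obtain ⟨-, α, hα, hαv⟩ := nscH_le h hk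
    have : a = α := by
      ext r
      rw [hkv, hαv]
    rw [this]
    exact hα
  have hR2 : E.autGroup (nscR p T) ≤
      (fusionSystemOfSubgroup (nscH h) T (le_nscH h)).autGroup (nscR p T) := by
    intro a ha
    rw [nsc_mem_autGroup_ofSubgroup (nscH h) (le_nscH h) nscR_le]
    obtain ⟨g, hg, hgv⟩ := nscM_onto h a ha
    obtain ⟨k, hk, hkv⟩ := nscH_covers h g hg
    exact ⟨k, hk, fun r => by rw [hgv, hkv r r.2]⟩
  have h12 := nsc_le_of_aut_le p S h.le (nscR p T) hRn nscR_le hcent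
    (fusionSystemOfSubgroup (nscH h) T (le_nscH h)) E hsat' h.satE hsub' h.sub hnE hR1
  have h21 := nsc_le_of_aut_le p S h.le (nscR p T) hRn nscR_le hcent
    E (fusionSystemOfSubgroup (nscH h) T (le_nscH h)) h.satE hsat' h.sub hsub' hnH hR2
  exact fun P => Set.Subset.antisymm (h21 P) (h12 P)

end Cfsg.Agent.NSC
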