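import Mathlib
import Cfsg.Prelude.Def_FusionComponents
import Cfsg.Agent.NSC.Basic
import Cfsg.Agent.NSC.Cent
import Cfsg.Agent.Lead.FusionFocal

set_option autoImplicit false
set_option linter.unusedSectionVars false

/-!
# S5121, part 8: uniqueness of the normal subgroup `H`
-/

namespace Cfsg.Agent.NSC

open Cfsg Cfsg.FusionSystem Cfsg.Agent.Lead Cfsg.Agent.Lead.StrongInv

variable {G : Type*} [Group G] {p : ℕ} [Fact p.Prime] {S : Sylow p G} {T : Subgroup G}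
  {E : FusionSystem T}

/-- If `T` is a Sylow `p`-subgroup of `H'`, then `S ∩ H' ≤ T`. -/
theorem nsc_S_inf_le_of_sylow (h : Setup p S T E) (H' : Subgroup G)
    (hsyl : ∃ R : Sylow p H', (R : Subgroup H') = T.subgroupOf H') {x : G}
    (hxS : x ∈ (S : Subgroup G)) (hxH : x ∈ H') : x ∈ T := by
  obtain ⟨R, hR⟩ := hsyl
  have hp : IsPGroup p (((S : Subgroup G) ⊓ H').subgroupOf H') := by
    have h1 : IsPGroup p ((S : Subgroup G) ⊓ H' : Subgroup G) := S.isPGroup'.to_le inf_le_left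
    exact h1.comap_of_injective H'.subtype H'.subtype_injective
  have hle : (R : Subgroup H') ≤ ((S : Subgroup G) ⊓ H').subgroupOf H' := by
    rw [hR]
    intro y hy
    exact Subgroup.mem_subgroupOf.mpr ⟨h.le (Subgroup.mem_subgroupOf.mp hy), y.2⟩
  have heq := R.is_maximal' hp hle
  have hx : (⟨x, hxH⟩ : H') ∈ ((S : Subgroup G) ⊓ H').subgroupOf H' :=
    Subgroup.mem_subgroupOf.mpr ⟨hxS, hxH⟩
  rw [heq, hR] at hx
  exact Subgroup.mem_subgroupOf.mp hx

/-- A valid `H'` lies in `M`. -/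
theorem nsc_le_nscM_of_valid (h : Setup p S T E) (H' : Subgroup G) (hTH' : T ≤ H') (hn : H'.Normal)
    (hsyl : ∃ R : Sylow p H', (R : Subgroup H') = T.subgroupOf H')
    (hhom : ∀ P : Subgroup G, E.Hom P = (fusionSystemOfSubgroup H' T hTH').Hom P) :
    H' ≤ nscM h := by
  intro k hk
  refine ⟨fun x hx => ?_, nscConjR h k, ?_, fun r => rfl⟩
  · have h1 : x⁻¹ * (k * x * k⁻¹) ∈ Cfsg.pCore p G :=
      Subgroup.mul_mem _ (Subgroup.inv_mem _ hx) (pCore_conj_mem hx k)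
    have h2 : x⁻¹ * (k * x * k⁻¹) ∈ H' := by
      have e : x⁻¹ * (k * x * k⁻¹) = x⁻¹ * k * x⁻¹⁻¹ * k⁻¹ := by group
      rw [e]
      exact Subgroup.mul_mem _ (hn.conj_mem k hk x⁻¹) (Subgroup.inv_mem _ hk)
    exact ⟨nsc_S_inf_le_of_sylow h H' hsyl (pCore_le_S S h1) h2, h1⟩
  · rw [Fusion.mem_autGroup_iff _ nscR_le, hhom]
    exact ⟨nscR_le, fun x => nscR_le (nscConjR h k x).2, k, hk, fun x => rfl⟩

/-- Every element of `M` agrees on `R` with an element of a valid `H'`. -/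
theorem nsc_exists_valid_conj (h : Setup p S T E) (H' : Subgroup G) (hTH' : T ≤ H')
    (hhom : ∀ P : Subgroup G, E.Hom P = (fusionSystemOfSubgroup H' T hTH').Hom P) {g : G}
    (hg : g ∈ nscM h) : ∃ k ∈ H', ∀ r ∈ nscR p T, k * r * k⁻¹ = g * r * g⁻¹ := by
  obtain ⟨α, hα, hαv⟩ := hg.2
  rw [Fusion.mem_autGroup_iff _ nscR_le, hhom] at hα
  obtain ⟨-, -, k, hk, hkv⟩ := hα
  refine ⟨k, hk, fun r hr => ?_⟩
  have h1 := hkv ⟨r, hr⟩
  have h2 := hαv ⟨r, hr⟩
  rw [← h2]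
  exact h1.symm

/-- `O^p(M)` lies in every valid `H'`. -/
theorem nscOp_le_of_valid [Finite G] (h : Setup p S T E) (H' : Subgroup G) (hTH' : T ≤ H')
    (hn : H'.Normal) (hsyl : ∃ R : Sylow p H', (R : Subgroup H') = T.subgroupOf H')
    (hhom : ∀ P : Subgroup G, E.Hom P = (fusionSystemOfSubgroup H' T hTH').Hom P) :
    nscOp h ≤ H' := by
  have hle := nsc_le_nscM_of_valid h H' hTH' hn hsyl hhom
  unfold nscOp
  rw [Subgroup.closure_le]
  rintro g ⟨hgM, hcop⟩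
  obtain ⟨k, hk, hkv⟩ := nsc_exists_valid_conj h H' hTH' hhom hgM
  -- `z = k⁻¹ g` lies in `Q₁`
  have hzM : k⁻¹ * g ∈ nscM h := Subgroup.mul_mem _ (Subgroup.inv_mem _ (hle hk)) hgM
  have hzC : k⁻¹ * g ∈ Subgroup.centralizer ((nscR p T : Subgroup G) : Set G) := by
    rw [Subgroup.mem_centralizer_iff]
    intro r hr
    have h1 := hkv r hr
    have h2 : g * r * g⁻¹ * k = k * r := by
      rw [← h1]; group
    calc r * (k⁻¹ * g) = k⁻¹ * (k * r) * k⁻¹ * g := by group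
      _ = k⁻¹ * (g * r * g⁻¹ * k) * k⁻¹ * g := by rw [h2]
      _ = k⁻¹ * g * r := by group
  have hzQ : k⁻¹ * g ∈ nscQ1 h := nscM_inf_centralizer_le h ⟨hzM, hzC⟩
  obtain ⟨j, hj⟩ := nscQ1_isPGroup h ⟨k⁻¹ * g, hzQ⟩
  have hj' : (k⁻¹ * g) ^ p ^ j = 1 := by
    have := congrArg Subtype.val hj
    simpa using this
  -- pass to `G ⧸ H'`
  have := hn
  have hq : (QuotientGroup.mk' H') g = (QuotientGroup.mk' H') (k⁻¹ * g) := by
    rw [map_mul, map_inv]
    have : (QuotientGroup.mk' H') k = 1 := (QuotientGroup.eq_one_iff k).mpr hk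
    rw [this, inv_one, one_mul]
  have h1 : ((QuotientGroup.mk' H') g) ^ p ^ j = 1 := by
    rw [hq, ← map_pow, hj', map_one]
  have h2 : ((QuotientGroup.mk' H') g) ^ orderOf g = 1 := by
    rw [← map_pow, pow_orderOf_eq_one, map_one]
  have h3 : orderOf ((QuotientGroup.mk' H') g) ∣ Nat.gcd (orderOf g) (p ^ j) :=
    Nat.dvd_gcd (orderOf_dvd_of_pow_eq_one h2) (orderOf_dvd_of_pow_eq_one h1)
  have h4 : Nat.gcd (orderOf g) (p ^ j) = 1 := Nat.Coprime.pow_right j hcop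
  rw [h4, Nat.dvd_one, orderOf_eq_one_iff] at h3
  exact (QuotientGroup.eq_one_iff g).mp h3

/-- Uniqueness: a valid `H'` is `H`. -/
theorem nsc_unique [Finite G] (h : Setup p S T E) (H' : Subgroup G) (hTH' : T ≤ H')
    (hn : H'.Normal) (hsyl : ∃ R : Sylow p H', (R : Subgroup H') = T.subgroupOf H')
    (hhom : ∀ P : Subgroup G, E.Hom P = (fusionSystemOfSubgroup H' T hTH').Hom P) :
    H' = nscH h := by
  apply le_antisymm
  · -- `H' = O^p(H') T`
    obtain ⟨R, hR⟩ := hsyl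
    have hle := nsc_le_nscM_of_valid h H' hTH' hn ⟨R, hR⟩ hhom
    have htop := pResidual_sup_sylow' (G := H') R
    have h1 : (Cfsg.pResidual p H').map H'.subtype ≤ nscOp h := by
      unfold Cfsg.pResidual
      rw [MonoidHom.map_closure, Subgroup.closure_le]
      rintro _ ⟨k, hk, rfl⟩
      apply Subgroup.subset_closure
      refine ⟨hle k.2, ?_⟩
      have : orderOf (H'.subtype k) = orderOf k := Subgroup.orderOf_coe k
      rw [this]
      exact hk
    have h2 : ((R : Subgroup H')).map H'.subtype ≤ T := by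
      rw [hR]
      rintro _ ⟨y, hy, rfl⟩
      exact Subgroup.mem_subgroupOf.mp hy
    intro k hk
    have h3 : (⟨k, hk⟩ : H') ∈ Cfsg.pResidual p H' ⊔ (R : Subgroup H') := by
      rw [htop]; exact Subgroup.mem_top _
    have h4 : k ∈ (Cfsg.pResidual p H' ⊔ (R : Subgroup H')).map H'.subtype := ⟨⟨k, hk⟩, h3, rfl⟩
    rw [Subgroup.map_sup] at h4
    exact (sup_le_sup h1 h2) h4
  · exact sup_le (nscOp_le_of_valid h H' hTH' hn hsyl hhom) hTH'

end Cfsg.Agent.NSC
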